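import Cfsg.Agent.N2.Cl.RSp.Cnt
import Cfsg.Agent.TwoF.SpO.Prod
import Cfsg.Agent.Characters.ClassMul
import Cfsg.Agent.TAB.Eng.Sep_m3
import Cfsg.Agent.TAB.HN.CertB_m3
import Cfsg.Agent.TAB.Suz.Main
import Cfsg.Agent.TAB.F22.Fam
import Cfsg.Agent.Prune
set_option linter.all false

section
prune_inst 0x7f00000000000000000000000000000000000000000000000000000000000000000000000000000000000000000000000000000000000000000000000000000000000000000000000000000000000000003fffffffffffffffffffffffffffbeffbdffffffff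

-- part: TH/Spor/InOne
section
set_option linter.all false
open scoped Cfsg.Agent.FastGrp

/-!
# S3541, the sporadic rows: single classes from a character table (helper31)

* `one_of_split` : counting the classes;
* `bnd_of_chk` : the number of the conjugates `x'` of `x` with `x' y` of a given type is an integer, which bounds the
  order of the centralizer of `x`.
-/

set_option autoImplicit false

namespace Cfsg.Agent.TH.Spor

open Cfsg Cfsg.Agent.TAB Cfsg.Agent.TAB.Eng Cfsg.Agent.TAB.Use Cfsg.Agent.TwoF.SpO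
open Subgroup (centralizer)

universe u

variable {G : Type u} [Group G] {D : Dat} {T : TD G D}

theorem one_of_notOne [Finite G] {R : Rows} (h : Tab T R) (hm : T.Mass) (hI : Inh T) {S : List ℕ}
    (h1 : R.n ≤ D.n + S.length) (h2 : S.Nodup) (h4 : ∀ t ∈ S, t < D.n ∧ ¬ One T t) {s : ℕ} (hs : s < D.n)
    (hs' : s ∉ S) : One T s := by
  classical
  have := Fintype.ofFinite (ConjClasses G)
  let f : ConjClasses G → ℕ := Quotient.lift T.ty fun _ _ e => (TD.ty_isConj e).symm
  have key : ∀ t < D.n, ¬ One T t → 2 ≤ (Finset.univ.filter fun c => f c = t).card := fun t ht h4 => by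
    obtain ⟨x, hx⟩ := hI t ht
    by_contra h5
    refine h4 ⟨x, hx, ?_⟩
    rw [← hm.2 t ht, ← card_class x]
    have h6 : ∀ g, T.ty g = t → IsConj x g := fun g hg => ConjClasses.mk_eq_mk_iff_isConj.1
      (Finset.card_le_one.1 (Nat.le_of_lt_succ (not_le.1 h5)) (ConjClasses.mk x)
        (Finset.mem_filter.2 ⟨Finset.mem_univ _, hx⟩) (ConjClasses.mk g) (Finset.mem_filter.2 ⟨Finset.mem_univ _, hg⟩))
    exact Nat.mul_le_mul_right _ (Nat.card_le_card_of_injective (Subtype.map id h6)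
      (Subtype.map_injective h6 Function.injective_id))
  by_contra h5
  have h6 := Finset.card_eq_sum_card_fiberwise (s := Finset.univ) (t := Finset.range D.n) (f := f)
    fun c _ => by
      obtain ⟨g, rfl⟩ := ConjClasses.mk_surjective c
      exact Finset.mem_coe.2 (Finset.mem_range.2 (T.lt g))
  rw [Finset.card_univ, ← Nat.card_eq_fintype_card, card_classes h] at h6
  have h7 : (s :: S).toFinset ⊆ Finset.range D.n := fun t ht => by
    rcases List.mem_cons.1 (List.mem_toFinset.1 ht) with rfl | ht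
    exacts [Finset.mem_range.2 hs, Finset.mem_range.2 (h4 t ht).1]
  have h8 : ∑ t ∈ Finset.range D.n, (1 + if t ∈ (s :: S).toFinset then 1 else 0) ≤
      ∑ t ∈ Finset.range D.n, (Finset.univ.filter fun c => f c = t).card := Finset.sum_le_sum fun t ht => by
    have ht := Finset.mem_range.1 ht
    split_ifs with h9
    · rcases List.mem_cons.1 (List.mem_toFinset.1 h9) with rfl | h9
      exacts [key _ ht h5, key _ ht (h4 t h9).2]
    · obtain ⟨x, hx⟩ := hI t ht
      exact Finset.card_pos.2 ⟨ConjClasses.mk x, Finset.mem_filter.2 ⟨Finset.mem_univ _, hx⟩⟩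
  rw [Finset.sum_add_distrib, Finset.sum_ite_mem, Finset.inter_eq_right.2 h7, ← Finset.card_eq_sum_ones,
    ← Finset.card_eq_sum_ones, Finset.card_range, List.toFinset_card_of_nodup (List.nodup_cons.2 ⟨hs', h2⟩),
    List.length_cons] at h8
  omega

/-- `(t, u, k)` : the `k`-th powers of the elements of type `u` have the type `t`, and `t` is not one class -/
def okSp (D : Dat) (n : ℕ) (S : List (ℕ × ℕ × ℕ)) (L : List ℕ) : Bool :=
  decide (n ≤ D.n + S.length) && decide (S.map Prod.fst).Nodup && (S.all fun x =>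
    decide (x.1 < D.n) && decide (x.2.1 < D.n) && D.pwf x.2.1 x.2.2 == x.1 && D.N % (D.cnt x.1 * D.ord x.2.1) != 0) &&
    (L.all fun s => decide (s < D.n) && decide (s ∉ S.map Prod.fst)) && (List.range D.n).all fun i => 0 < D.cnt i

/-- **the other types are single classes** -/
theorem one_of_split [Finite G] {R : Rows} (h : Tab T R) (hm : T.Mass) (S : List (ℕ × ℕ × ℕ)) {L : List ℕ}
    (hS : okSp D R.n S L = true) : ∀ s ∈ L, One T s := by
  simp only [okSp, Bool.and_eq_true, decide_eq_true_eq, List.all_eq_true, beq_iff_eq, bne_iff_ne, List.mem_range] at hS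
  obtain ⟨⟨⟨⟨h1, h2⟩, h3⟩, h4⟩, h5⟩ := hS
  have hI := inh_of_mass hm h5
  refine fun s hs => one_of_notOne h hm hI (by rwa [List.length_map]) h2 (fun t ht => ?_) (h4 s hs).1 (h4 s hs).2
  obtain ⟨x, hx, rfl⟩ := List.mem_map.1 ht
  obtain ⟨⟨⟨h6, h7⟩, h8⟩, h9⟩ := h3 x hx
  refine ⟨h6, fun h10 => ?_⟩
  obtain ⟨g, hg⟩ := hI _ h7
  refine h10.not_dvd hm (fun h11 => h9 (Nat.mod_eq_zero_of_dvd h11)) (b := g ^ x.2.2) (by rw [T.pow, hg, h8]) ?_
  rw [← hg, ← T.ord, ← Nat.card_zpowers]
  exact Subgroup.card_dvd_of_le (Subgroup.zpowers_le.2 (Subgroup.mem_centralizer_singleton_iff.2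
    (Commute.self_pow g _).eq))

theorem in_of_split [Finite G] {R : Rows} (h : Tab T R) (hm : T.Mass) (S : List (ℕ × ℕ × ℕ)) (L : List ℕ)
    (hS : okSp D R.n S L = true) (hc : SB.SporL.covU D L = true) : In G D R :=
  ⟨T, hm, h, unif_of_one hm L hc (one_of_split h hm S hS)⟩

/-! ### bounds for the centralizers -/

/-- the orders of the centralizers of the elements of type `t` divide `U` -/
def Bnd (T : TD G D) (t U : ℕ) : Prop := ∀ x, T.ty x = t → Nat.card (centralizer ({x} : Set G)) ∣ U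

theorem Bnd.one (hN : Nat.card G = D.N) (hI : Inh T) {t U : ℕ} (h : Bnd T t U) (ht : t < D.n) (h0 : 0 < U)
    (hU : D.cnt t * U ≤ D.N) : One T t := by
  obtain ⟨x, hx⟩ := hI t ht
  exact ⟨x, hx, hN ▸ (Nat.mul_le_mul_left _ (Nat.le_of_dvd h0 (h x hx))).trans hU⟩

/-- the greatest common divisor of the entries -/
noncomputable def gcdL (V : List ℤ) : ℕ := List.rec 0 (fun a _ ih => frc ih fun g => Nat.gcd a.natAbs g) V

theorem gcdL_dvd (V : List ℤ) : ∀ u, (gcdL V : ℤ) ∣ nth V u := by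
  induction V with
  | nil => exact fun _ => dvd_zero _
  | cons a V ih =>
    have h1 : gcdL (a :: V) = Nat.gcd a.natAbs (gcdL V) := frc_eq _ _
    intro u
    rw [h1]
    cases u with
    | zero => exact Int.natCast_dvd.2 (Nat.gcd_dvd_left _ _)
    | succ u => exact (Int.natCast_dvd_natCast.2 (Nat.gcd_dvd_right _ _)).trans (ih u)

theorem dvd_sumP [Finite G] (hN : Nat.card G = D.N) (h1 : T.ty 1 = 0) {W : List (List ℤ)} (hW : ∀ w ∈ W, IrrRow T w)
    (z : List ℤ) (x y : G) : Nat.card (centralizer ({x} : Set G)) ∣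
      (Int.mul D.N (sumP (T.ty x) (T.ty y) z W)).natAbs / gcdL (accP z W (List.replicate D.n 0)) := by
  classical
  have := Fintype.ofFinite G
  have h3 := sum_accP h1 x y z W _ hW (List.length_replicate (a := 0))
  have h5 : ∑ a, nth (List.replicate D.n 0) (T.ty (a * x * a⁻¹ * y)) = 0 :=
    Finset.sum_eq_zero fun a _ => by
      rw [nth_eq, List.getD_eq_getElem _ _ (by rw [List.length_replicate]; exact T.lt _), List.getElem_replicate]
  rw [h5, zero_add, hN, Characters.ClassMul.sum_conj_eq_smul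
    (fun g => nth (accP z W (List.replicate D.n 0)) (T.ty (g * y))) x, nsmul_eq_mul] at h3
  rcases Nat.eq_zero_or_pos (gcdL (accP z W (List.replicate D.n 0))) with h6 | h6
  · rw [h6, Nat.div_zero]
    exact dvd_zero _
  · refine Nat.dvd_div_of_mul_dvd (Int.natCast_dvd.1 ?_)
    show _ ∣ (D.N : ℤ) * _
    rw [← h3, Nat.cast_mul, mul_comm]
    exact mul_dvd_mul_left _ (Finset.dvd_sum fun g _ => gcdL_dvd _ _)

/-- the coefficients of a certificate -/
noncomputable def zOf (D : Dat) (W : List (List ℤ)) (m : List (ℤ × ℕ)) : List ℤ :=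
  W.map fun w => Int.mul (Int.ediv D.N (nth w 0)) (List.rec 0 (fun p _ ih => Int.add (Int.mul p.1 (nth w p.2)) ih) m)

/-- the coefficients with the common divisor of the values -/
noncomputable def zM (D : Dat) (W : List (List ℤ)) (m : List (ℤ × ℕ)) : List ℤ × ℕ :=
  (zOf D W m, gcdL (accP (zOf D W m) W (List.replicate D.n 0)))

/-- evaluate all the certificates -/
noncomputable def allZ (D : Dat) (W : List (List ℤ)) (ms : List (List (ℤ × ℕ))) : (List (List ℤ × ℕ) → Bool) → Bool :=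
  List.rec (fun k => k []) (fun m _ ih k => frcLZ (zOf D W m) fun z =>
    frcLZ (accP z W (List.replicate D.n 0)) fun V => frc (gcdL V) fun M => ih fun l => k ((z, M) :: l)) ms

theorem allZ_eq (W : List (List ℤ)) (ms : List (List (ℤ × ℕ))) :
    ∀ k, allZ D W ms k = k (ms.map (zM D W)) := by
  induction ms with
  | nil => exact fun _ => rfl
  | cons m ms ih =>
    intro k
    refine (frcLZ_eq _ _).trans ((frcLZ_eq _ _).trans ((frc_eq _ _).trans ?_))
    exact ih fun l => k (zM D W m :: l)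

/-- the bound for the type `t` from the pairs (certificate, type of `y`) -/
noncomputable def gB (D : Dat) (W : List (List ℤ)) (Z : List (List ℤ × ℕ)) (t : ℕ) (P : List (ℕ × ℕ)) : ℕ :=
  List.rec 0 (fun p _ ih => frc ih fun g =>
    Nat.gcd ((Int.mul D.N (sumP t p.2 (ntd Z ([], 0) p.1).1 W)).natAbs / (ntd Z ([], 0) p.1).2) g) P

/-- the check of the bounds `(t, U, pairs)` -/
noncomputable def okB (D : Dat) (W : List (List ℤ)) (ms : List (List (ℤ × ℕ))) (L : List (ℕ × ℕ × List (ℕ × ℕ))) : Bool :=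
  ((List.range D.n).all fun i => i == 0 || D.ord i != 1) && ((List.range D.n).all fun i => 0 < D.cnt i) &&
    Glue.frcM W fun W' => allZ D W' ms fun Z =>
      allL (fun e => allL (fun p => Nat.blt p.2 D.n) e.2.2 && Nat.beq (e.2.1 % gB D W' Z e.1 e.2.2) 0) L

/-- **bounds for the centralizers** -/
theorem bnd_of_chk [Finite G] (hm : T.Mass) {W : List (List ℤ)} (hW : ∀ w ∈ W, IrrRow T w)
    {ms : List (List (ℤ × ℕ))} {L : List (ℕ × ℕ × List (ℕ × ℕ))} (h : okB D W ms L = true) :
    ∀ e ∈ L, Bnd T e.1 e.2.1 := by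
  rw [okB, Glue.frcM_eq, allZ_eq, Bool.and_eq_true, Bool.and_eq_true] at h
  obtain ⟨⟨h1, h2⟩, h3⟩ := h
  have hI := inh_of_mass hm fun i hi => of_decide_eq_true (List.all_eq_true.1 h2 i (List.mem_range.2 hi))
  intro e he x hx
  have h4 := allL_spec h3 e he
  rw [Bool.and_eq_true, Nat.beq_eq] at h4
  refine dvd_trans ?_ (Nat.dvd_of_mod_eq_zero h4.2)
  have h5 := allL_spec h4.1
  generalize e.2.2 = P at h5
  induction P with
  | nil => exact dvd_zero _
  | cons p P ih =>
    refine dvd_trans (Nat.dvd_gcd ?_ (ih fun q hq => h5 q (List.mem_cons_of_mem _ hq))) (dvd_of_eq (frc_eq _ _).symm)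
    obtain ⟨y, hy⟩ := hI p.2 (Nat.blt_eq ▸ h5 p List.mem_cons_self)
    rcases ntd_mem (ms.map (zM D W)) ([], 0) p.1 with h6 | h6
    · rw [h6, Nat.div_zero]
      exact dvd_zero _
    · obtain ⟨m, -, h7⟩ := List.mem_map.1 h6
      rw [← h7, ← hx, ← hy]
      exact dvd_sumP hm.1 (ty_one h1) hW _ x y

/-- the bounds are the exact ones -/
def okOne (D : Dat) (L : List (ℕ × ℕ × List (ℕ × ℕ))) : Bool :=
  (L.all fun e => decide (e.1 < D.n) && decide (0 < e.2.1) && decide (D.cnt e.1 * e.2.1 ≤ D.N)) &&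
    (List.range D.n).all fun i => 0 < D.cnt i

theorem one_of_bnd (hm : T.Mass) {L : List (ℕ × ℕ × List (ℕ × ℕ))} (h : ∀ e ∈ L, Bnd T e.1 e.2.1)
    (hE : okOne D L = true) : ∀ t ∈ L.map Prod.fst, One T t := by
  simp only [okOne, Bool.and_eq_true, decide_eq_true_eq, List.all_eq_true, List.mem_range] at hE
  intro t ht
  obtain ⟨e, he, rfl⟩ := List.mem_map.1 ht
  obtain ⟨⟨h1, h2⟩, h3⟩ := hE.1 e he
  exact (h e he).one hm.1 (inh_of_mass hm hE.2) h1 h2 h3

theorem in_of_chk [Finite G] {R : Rows} (h : Tab T R) (hm : T.Mass) {W : List (List ℤ)} (hW : ∀ w ∈ W, IrrRow T w)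
    {ms : List (List (ℤ × ℕ))} {L : List (ℕ × ℕ × List (ℕ × ℕ))} (hB : okB D W ms L = true) (hE : okOne D L = true)
    (hc : SB.SporL.covU D (L.map Prod.fst) = true) : In G D R :=
  ⟨T, hm, h, unif_of_one hm _ hc (one_of_bnd hm (bnd_of_chk hm hW hB) hE)⟩

/-- the check of the descent: the bounds for the types of order `l * ord t` above `t` are not divisible by `l ^ (e + 1)` -/
def okD (D : Dat) (l e t : ℕ) (L : List (ℕ × ℕ × List (ℕ × ℕ))) : Bool :=
  D.ord t % l != 0 && (List.range D.n).all fun u => D.ord u != l * D.ord t || D.pwf u l != D.pwf t l ||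
    L.any fun x => x.1 == u && x.2.1 % l ^ (e + 1) != 0

/-- **descent** : an element of order `l` in the centre of an `l`-subgroup of the centralizer -/
theorem Bnd.desc [Finite G] {l a e t m : ℕ} (hl : l.Prime) (h : Bnd T t (l ^ a * m))
    {L : List (ℕ × ℕ × List (ℕ × ℕ))} (hL : ∀ x ∈ L, Bnd T x.1 x.2.1) (hD : okD D l e t L = true) :
    Bnd T t (l ^ e * m) := by
  simp only [okD, Bool.and_eq_true, bne_iff_ne, List.all_eq_true, List.mem_range, Bool.or_eq_true, List.any_eq_true,
    beq_iff_eq] at hD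
  intro x hx
  obtain ⟨c, d, hc, hd, h1⟩ := Nat.dvd_mul.1 (h x hx)
  obtain ⟨i, -, rfl⟩ := (Nat.dvd_prime_pow hl).1 hc
  rw [← h1]
  refine Nat.mul_dvd_mul (pow_dvd_pow l (not_lt.1 fun h2 => ?_)) hd
  have : Fact l.Prime := ⟨hl⟩
  obtain ⟨R, hR⟩ := Sylow.exists_subgroup_card_pow_prime (G := centralizer ({x} : Set G)) l (n := e + 1)
    (h1 ▸ (pow_dvd_pow l h2).mul_right d)
  have h3 : Nat.card (R.map (centralizer ({x} : Set G)).subtype) = l ^ (e + 1) := by
    rw [Subgroup.card_map_of_injective (Subgroup.subtype_injective _), hR]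
  have h4 : ∀ b ∈ R.map (centralizer ({x} : Set G)).subtype, Commute b x := by
    rintro _ ⟨b, -, rfl⟩
    exact Subgroup.mem_centralizer_singleton_iff.1 b.2
  obtain ⟨z, hz, h5, h6⟩ := exists_central hl (IsPGroup.of_card h3) fun h5 => by
    rw [h5, Subgroup.card_bot] at h3
    exact (Nat.one_lt_pow e.succ_ne_zero hl.one_lt).ne h3
  have h7 : ¬ l ∣ orderOf x := fun h7 => hD.1 (Nat.mod_eq_zero_of_dvd (by rwa [← hx, ← T.ord]))
  rcases hD.2 _ (T.lt (z * x)) with (h8 | h8) | ⟨y, hy, h8, h9⟩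
  · exact h8 (by rw [ord_mul hl (n := 1) (by rw [h5, pow_one]) h7 (h4 z hz), pow_one, hx])
  · refine h8 ?_
    rw [← T.pow, (h4 z hz).mul_pow, ← hx, ← T.pow, ← h5, pow_orderOf_eq_one, one_mul]
  · refine h9 (Nat.mod_eq_zero_of_dvd (dvd_trans ?_ (hL y hy _ h8.symm)))
    rw [← h3]
    exact Subgroup.card_dvd_of_le fun b hb =>
      Subgroup.mem_centralizer_singleton_iff.2 ((h6 b hb).mul_right (h4 b hb)).eq

end Cfsg.Agent.TH.Spor

private theorem dce_633db4bb8395 : _root_.True := by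
  try have : _root_.True := by simp only [_root_.Cfsg.Agent.TH.Spor.okSp.eq_1]
  try have : _root_.True := by simp only [_root_.Cfsg.Agent.TH.Spor.okD.eq_1]
  try have : _root_.True := by simp only [_root_.Cfsg.Agent.TH.Spor.okB.eq_1]
  try have : _root_.True := by simp only [_root_.Cfsg.Agent.TH.Spor.okOne.eq_1]
  exact _root_.True.intro
end

-- part: TH/Spor/InD
section
set_option linter.all false
open scoped Cfsg.Agent.FastGrp

/-!
# S3541, the sporadic rows: `In` for `HS Suz Fi22` (helper31)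
-/

set_option autoImplicit false
set_option maxRecDepth 100000

namespace Cfsg.Agent.TH.Spor

open Cfsg Cfsg.Agent.TAB Cfsg.Agent.TAB.Eng Cfsg.Agent.TAB.Use Cfsg.Agent.TAB.Sm2 Cfsg.Agent.TwoF.SpO

variable {K : Type} [Group K]

/-- the bounds for `Suz` -/
def bSuz : List (ℕ × ℕ × List (ℕ × ℕ)) :=
  [(1, 3317760, [(0, 34), (0, 12), (0, 2)]), (4, 34992, [(0, 35), (0, 9)]), (6, 3240, [(0, 33), (0, 15)]),
    (14, 300, [(0, 36), (0, 9)]), (31, 161280, [(0, 26), (0, 9)]), (34, 1800, [(0, 36), (0, 13), (0, 5)]),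
    (36, 9797760, [(0, 34), (0, 16)])]

theorem in_suz (h : Spor.IsoSuz K) : In K TAB.Sz.dat (mkRows TAB.Sz.rowA TAB.Sz.rowB) := by
  obtain ⟨e⟩ := h
  have : Finite Spor.Suz := Nat.finite_of_card_ne_zero (by rw [TAB.Sz.mass.1]; decide)
  exact (in_of_chk TAB.Sz.tab TAB.Sz.mass (irr_mkRows TAB.Sz.tab) (ms := [[(90, 10), (35, 15), (1, 31)]]) (L := bSuz)
    (by decide +kernel) (by decide +kernel) (by decide +kernel)).of_equiv e

/-- the bounds for `Fi22` -/
def bF22 : List (ℕ × ℕ × List (ℕ × ℕ)) :=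
  [(1, 1769472, [(0, 41), (0, 33)]), (2, 53084160, [(0, 43), (0, 12)]), (3, 18393661440, [(0, 12), (0, 13)]),
    (4, 17496, [(0, 24), (1, 46), (0, 11)]), (5, 2519424, [(0, 16), (1, 25)]), (6, 139968, [(0, 56), (1, 31)]),
    (7, 19595520, [(0, 31), (0, 9)]), (13, 600, [(0, 4), (1, 25)])]

theorem in_fi22 (h : Spor.IsoFi22 K) : In K F22.dat (mkRows F22.rowA F22.rowB) := by
  obtain ⟨e⟩ := h
  have := F22.fin22
  exact (in_of_chk F22.tab F22.mass (irr_mkRows F22.tab) (ms := [[(1, 3), (315, 12), (224, 24)], [(1, 13)]])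
    (L := bF22) (by decide +kernel) (by decide +kernel) (by decide +kernel)).of_equiv e

/-- the bounds for `HS` -/
def bHS : List (ℕ × ℕ × List (ℕ × ℕ)) :=
  [(1, 2880, [(0, 11), (0, 8), (0, 17)]), (2, 7680, [(0, 15), (0, 10)]), (3, 360, [(0, 12), (0, 1)]),
    (7, 300, [(0, 12), (0, 17)]), (8, 1000, [(0, 20), (0, 8), (0, 9)]), (9, 100, [(0, 12), (0, 4)])]

theorem hs_one {G : Type} [Group G] [Finite G] {T : TD G HS.D} (hm : T.Mass) (h : Tab T (mkRows HS.A HS.B)) :
    ∀ t ∈ [1, 2, 3, 7, 8, 9], One T t := by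
  have hI := inh_of_mass hm (by decide +kernel)
  have h1 := bnd_of_chk hm (irr_mkRows h) (ms := [[(10, 3), (3, 4), (-20, 10)]]) (L := bHS) (by decide +kernel)
  simp only [bHS, List.forall_mem_cons] at h1 ⊢
  obtain ⟨b1, b2, b3, b7, b8, b9, -⟩ := h1
  refine ⟨b1.one hm.1 hI (by decide) (by decide) (by decide), b2.one hm.1 hI (by decide) (by decide) (by decide),
    b3.one hm.1 hI (by decide) (by decide) (by decide), b7.one hm.1 hI (by decide) (by decide) (by decide), ?_,
    (Bnd.desc (a := 2) (e := 0) (m := 25) Nat.prime_two b9 (L := []) (List.forall_mem_nil _) (by decide)).one hm.1 hI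
      (by decide) (by decide) (by decide), List.forall_mem_nil _⟩
  by_cases h2 : One T 15
  · have h3 : Bnd T 15 20 := fun x hx => by
      have h4 : 2217600 * _ = 44352000 := h2.card hm hx
      exact dvd_of_eq (by omega)
    exact (Bnd.desc (a := 3) (e := 2) (m := 125) Nat.prime_two b8 (L := [(15, 20, [])])
      (List.forall_mem_singleton.2 h3) (by decide)).one hm.1 hI (by decide) (by decide) (by decide)
  · have h3 : ∀ t < HS.D.n, ¬ HS.D.cnt t * HS.D.ord t ∣ HS.D.N → ¬ One T t := fun t ht h3 h4 => by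
      obtain ⟨g, hg⟩ := hI t ht
      refine h4.not_dvd hm h3 hg ?_
      rw [← hg, ← T.ord, ← Nat.card_zpowers]
      exact Subgroup.card_dvd_of_le (Subgroup.zpowers_le.2 (Subgroup.mem_centralizer_singleton_iff.2 rfl))
    refine one_of_notOne h hm hI (S := [15, 17, 20]) (by decide +kernel) (by decide) ?_ (by decide) (by decide)
    simp only [List.forall_mem_cons]
    exact ⟨⟨by decide, h2⟩, ⟨by decide, h3 _ (by decide) (by decide)⟩, ⟨by decide, h3 _ (by decide) (by decide)⟩,
      List.forall_mem_nil _⟩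

theorem in_hs (h : Spor.IsoHS K) : In K HS.D (mkRows HS.A HS.B) := by
  obtain ⟨e⟩ := h
  obtain ⟨f⟩ := HS.isoQ
  exact In.of_equiv ⟨_, HS.mass, HS.tabQ.2, unif_of_one HS.mass _ (by decide +kernel) (hs_one HS.mass HS.tabQ.2)⟩
    (e.trans f.symm)

end Cfsg.Agent.TH.Spor

private theorem dce_fccb9cbbe01b : _root_.True := by
  try have : _root_.True := by simp only [_root_.Cfsg.Agent.TH.Spor.bHS.eq_1]
  exact _root_.True.intro
end
end
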