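import Cfsg.Agent.TH.Spor.Defs
import Cfsg.Agent.SB.SporL.LP
import Cfsg.Agent.TAB.J1.Main
import Cfsg.Agent.TAB.Sm1.Fin_m3
import Cfsg.Agent.TAB.Eng.Map
import Cfsg.Agent.OddHalf.D4.Spor.J1Out
import Cfsg.Agent.Prune
set_option linter.all false

section
prune_inst 0x7f00000000000000000000000000000000000000000000000000000000000000000000000000000000000000000000000000000000000000000000000000000000000000000000000000000000000000003fffffffffffffffffffffffffffbeffbdffffffff

-- part: TH/Spor/EngB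
section
set_option linter.all false
open scoped Cfsg.Agent.FastGrp

-- part: TH/Spor/Fix
section
/-!
# S3541, sporadic rows: fixed points in a configuration `W A d j` (helper26)
-/

set_option autoImplicit false

namespace Cfsg.Agent.TH.Spor

open MulAction

variable {K : Type*} [Group K] [Finite K] {A : Subgroup K} {d j : ℕ}

omit [Finite K] in
theorem fix_conj (A : Subgroup K) (x g : K) : fix A (g * x * g⁻¹) = fix A x := by
  refine Nat.card_congr ⟨fun β => ⟨g⁻¹ • β.1, ?_⟩, fun β => ⟨g • β.1, ?_⟩, fun β => by simp, fun β => by simp⟩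
  · have h2 : (g * x * g⁻¹) • β.1 = β.1 := β.2
    rw [mem_fixedBy]
    conv_rhs => rw [← h2]
    simp only [mul_smul, _root_.inv_smul_smul]
  · have h2 : x • β.1 = β.1 := β.2
    rw [mem_fixedBy]
    simp only [mul_smul, h2, _root_.inv_smul_smul]

theorem fix_le_pow (A : Subgroup K) (x : K) (k : ℕ) : fix A x ≤ fix A (x ^ k) :=
  Nat.card_le_card_of_injective _ (Set.inclusion_injective (by
    have := fixedBy_subset_fixedBy_zpow (K ⧸ A) x k
    rwa [zpow_natCast] at this))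

theorem fix_le_of_isConj (A : Subgroup K) {x y : K} {k : ℕ} (h : IsConj (x ^ k) y) : fix A x ≤ fix A y := by
  obtain ⟨c, rfl⟩ := isConj_iff.1 h
  rw [fix_conj]
  exact fix_le_pow A x k

omit [Finite K] in
theorem exists_conj_mem {x : K} (h : 1 ≤ fix A x) : ∃ g : K, g⁻¹ * x * g ∈ A := by
  obtain ⟨⟨β, hβ⟩⟩ := (Nat.card_pos_iff.1 h).1
  induction β using QuotientGroup.induction_on with
  | _ g => exact ⟨g, mem_cj.1 ((smul_coe_eq_iff x g).1 hβ)⟩

omit [Finite K] in
theorem fix_eq_zero {x : K} (h : ¬ orderOf x ∣ Nat.card A) : fix A x = 0 := by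
  by_contra h1
  obtain ⟨g, hg⟩ := exists_conj_mem (Nat.pos_of_ne_zero h1)
  have h2 : orderOf ((MulAut.conj g⁻¹) x) = orderOf x := MulEquiv.orderOf_eq _ x
  rw [MulAut.conj_apply, inv_inv] at h2
  exact h (h2 ▸ A.orderOf_dvd_natCard hg)

omit [Finite K] in
/-- a subgroup whose order does not divide `j μ` fixes at most one point -/
theorem W.eq_of_fix (h : W A d j) {Y : Subgroup K} (hY : ¬ Nat.card Y ∣ j * (Nat.card A / d)) {β γ : K ⧸ A}
    (h1 : ∀ y ∈ Y, y • β = β) (h2 : ∀ y ∈ Y, y • γ = γ) : β = γ := by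
  induction β using QuotientGroup.induction_on with
  | _ a =>
  induction γ using QuotientGroup.induction_on with
  | _ b =>
  rw [QuotientGroup.eq]
  by_contra h3
  refine hY (dvd_trans ?_ (h.hi _ h3))
  rw [← card_cj a (A ⊓ cj (a⁻¹ * b) A), cj_inf, ← cj_mul, mul_inv_cancel_left]
  exact Subgroup.card_dvd_of_le fun y hy => ⟨(smul_coe_eq_iff y a).1 (h1 y hy), (smul_coe_eq_iff y b).1 (h2 y hy)⟩

omit [Finite K] in
theorem smul_eq_of_zpowers {x : K} {β : K ⧸ A} (h : x • β = β) : ∀ y ∈ Subgroup.zpowers x, y • β = β :=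
  fun _ hy => (Subgroup.zpowers_le (H := stabilizer K β)).2 h hy

theorem W.fix_le_one (h : W A d j) {x : K} (hx : ¬ orderOf x ∣ j * (Nat.card A / d)) : fix A x ≤ 1 :=
  Finite.card_le_one_iff_subsingleton.2 ⟨fun β γ => Subtype.ext (h.eq_of_fix (by rwa [Nat.card_zpowers])
    (smul_eq_of_zpowers β.2) (smul_eq_of_zpowers γ.2))⟩

omit [Finite K] in
theorem W.four_le (h : W A d j) : 5 ≤ A.index := by
  have h1 := h.two
  have h2 := h.one_lt
  omega

omit [Finite K] in
theorem W.not_dvd (h : W A d j) {p : ℕ} (hp : p.Prime) (hd : p ∣ d) : ¬ p ∣ A.index := fun h1 => by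
  have h2 := h.four_le
  have h3 := (Nat.dvd_sub h1 (hd.trans h.dvd'))
  rw [Nat.sub_sub_self (by omega), Nat.dvd_one] at h3
  exact hp.one_lt.ne' h3

omit [Finite K] in
/-- a `p`-subgroup, `p ∣ d`, fixes a point -/
theorem W.exists_fix (h : W A d j) {p : ℕ} (hp : p.Prime) (hd : p ∣ d) {Y : Subgroup K} (hY : IsPGroup p Y) :
    ∃ β : K ⧸ A, ∀ y ∈ Y, y • β = β := by
  have := Fact.mk hp
  obtain ⟨β, hβ⟩ := hY.nonempty_fixed_point_of_prime_not_dvd_card (K ⧸ A) (h.not_dvd hp hd)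
  exact ⟨β, fun y hy => hβ ⟨y, hy⟩⟩

theorem W.one_le_fix (h : W A d j) {x : K} {e : ℕ} (hx : ¬ Nat.gcd (orderOf x) (d ^ e) ∣ j * (Nat.card A / d)) :
    1 ≤ fix A x := by
  rw [Nat.dvd_iff_prime_pow_dvd_dvd] at hx
  push Not at hx
  obtain ⟨p, k, hp, h1, h2⟩ := hx
  have hk : k ≠ 0 := by
    rintro rfl
    exact h2 (one_dvd _)
  have h3 : p ∣ d := hp.dvd_of_dvd_pow ((dvd_pow_self p hk).trans (h1.trans (Nat.gcd_dvd_right _ _)))
  have h4 : orderOf (x ^ (orderOf x / p ^ k)) = p ^ k :=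
    orderOf_pow_orderOf_div (orderOf_pos x).ne' (h1.trans (Nat.gcd_dvd_left _ _))
  have h5 : Nat.card (Subgroup.zpowers (x ^ (orderOf x / p ^ k))) = p ^ k := by rw [Nat.card_zpowers, h4]
  obtain ⟨β, hβ⟩ := h.exists_fix hp h3 (IsPGroup.of_card h5)
  refine Nat.card_pos_iff.2 ⟨⟨⟨β, h.eq_of_fix (by rwa [h5]) (smul_eq_of_zpowers ?_) hβ⟩⟩, inferInstance⟩
  rw [← mul_smul, ← pow_succ, pow_succ', mul_smul, hβ _ (Subgroup.mem_zpowers _)]

theorem W.mu_pos (h : W A d j) : 0 < Nat.card A / d :=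
  Nat.div_pos (Nat.le_of_dvd Nat.card_pos h.dvd) (lt_trans one_pos h.one_lt)

omit [Finite K] in
theorem W.lo' (h : W A d j) (g : K) : Nat.card A / d ∣ Nat.card ↥(A ⊓ cj g A) := by
  by_cases hg : g ∈ A
  · rw [cj_of_mem hg, inf_idem]
    exact Nat.div_dvd_of_dvd h.dvd
  · exact h.lo g hg

theorem W.card_orbit_dvd (h : W A d j) (β : K ⧸ A) : Nat.card (orbit A β) ∣ d := by
  induction β using QuotientGroup.induction_on with
  | _ g =>
  have h1 : Nat.card (stabilizer A (g : K ⧸ A)) = Nat.card ↥(A ⊓ cj g A) := Nat.card_congr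
    { toFun := fun a => ⟨a.1.1, a.1.2, (smul_coe_eq_iff _ _).1 a.2⟩
      invFun := fun a => ⟨⟨a.1, a.2.1⟩, (smul_coe_eq_iff _ _).2 a.2.2⟩
      left_inv := fun _ => rfl
      right_inv := fun _ => rfl }
  have h2 := Gen.card_orbit_mul (L := A) (g : K ⧸ A)
  obtain ⟨c, hc⟩ := h.lo' g
  rw [h1, hc, ← Nat.div_mul_cancel h.dvd, Nat.mul_div_cancel _ (lt_trans one_pos h.one_lt)] at h2
  refine ⟨c, Nat.eq_of_mul_eq_mul_left h.mu_pos ?_⟩
  rw [← h2]
  ring

/-- **SIGMA** : an element of prime order `s ∤ d` of `A` fixes a point in every orbit -/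
theorem W.sig_mem (h : W A d j) {x : K} (hp : (orderOf x).Prime) (hd : ¬ orderOf x ∣ d) (hx : x ∈ A) :
    A.index - 1 ≤ d * (fix A x - 1) := by
  classical
  have := Fintype.ofFinite (K ⧸ A)
  have := Fact.mk hp
  let α : K ⧸ A := ((1 : K) : K ⧸ A)
  have h0 : ∀ a : A, a • α = α := fun a => (smul_coe_eq_iff (a : K) 1).2 (by rw [cj_one]; exact a.2)
  have h1 : Finset.univ.erase α ⊆ ((fixedBy (K ⧸ A) x).toFinset.erase α).biUnion fun γ => (orbit A γ).toFinset := by
    intro β hβ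
    have h2 : IsPGroup (orderOf x) (Subgroup.zpowers (⟨x, hx⟩ : A)) :=
      IsPGroup.of_card (n := 1) (by rw [Nat.card_zpowers, pow_one, ← Subgroup.orderOf_coe])
    obtain ⟨γ, hγ⟩ := h2.nonempty_fixed_point_of_prime_not_dvd_card (orbit A β)
      fun h3 => hd (h3.trans (h.card_orbit_dvd β))
    have h3 : β ∈ orbit A γ.1 := mem_orbit_symm.1 γ.2
    refine Finset.mem_biUnion.2 ⟨γ.1, Finset.mem_erase.2 ⟨fun h4 => ?_, Set.mem_toFinset.2 ?_⟩, Set.mem_toFinset.2 h3⟩
    · obtain ⟨a, ha⟩ := h3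
      rw [h4] at ha
      exact Finset.ne_of_mem_erase hβ (ha.symm.trans (h0 a))
    · exact congrArg Subtype.val (hγ ⟨⟨x, hx⟩, Subgroup.mem_zpowers _⟩)
  have h2 := (Finset.card_le_card h1).trans (Finset.card_biUnion_le_card_mul _ _ d fun γ _ => by
    rw [Set.toFinset_card, ← Nat.card_eq_fintype_card]
    exact Nat.le_of_dvd (lt_trans one_pos h.one_lt) (h.card_orbit_dvd γ))
  rw [Finset.card_erase_of_mem (Finset.mem_univ _), Finset.card_univ, ← Nat.card_eq_fintype_card,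
    Finset.card_erase_of_mem (Set.mem_toFinset.2 (show α ∈ fixedBy (K ⧸ A) x from h0 ⟨x, hx⟩)),
    Set.toFinset_card, ← Nat.card_eq_fintype_card,
    mul_comm] at h2
  exact h2

theorem W.sig (h : W A d j) {x : K} (hp : (orderOf x).Prime) (hd : ¬ orderOf x ∣ d) (hx : 1 ≤ fix A x) :
    (A.index - 1) / d + 1 ≤ fix A x := by
  obtain ⟨g, hg⟩ := exists_conj_mem hx
  have h2 : orderOf ((MulAut.conj g⁻¹) x) = orderOf x := MulEquiv.orderOf_eq _ x
  have h3 := fix_conj A x g⁻¹
  rw [inv_inv] at h3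
  rw [MulAut.conj_apply, inv_inv] at h2
  have h4 := h.sig_mem (h2 ▸ hp) (h2 ▸ hd) hg
  rw [h3] at h4
  have h5 := Nat.div_le_of_le_mul h4
  omega

open Classical in
/-- the row `S` -/
theorem W.rowS (h : W A d j) [Fintype A] :
    (Nat.card A / d - 1) * (A.index - 1) ≤ ∑ x : A, if (x : K) = 1 then 0 else (fix A x - 1) := by
  have h1 := sigma_le (H := A) ((Finset.univ.filter fun x : A => ¬ (x : K) = 1).map ⟨Subtype.val, Subtype.val_injective⟩)
    (fun x hx => by
      obtain ⟨y, -, rfl⟩ := Finset.mem_map.1 hx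
      exact y.2) (j := Nat.card A / d - 1) fun g hg => by
      refine (Nat.sub_le_sub_right (Nat.le_of_dvd Nat.card_pos (h.lo g hg)) 1).trans ?_
      rw [← ncard_sdiff_one]
      refine Set.ncard_le_ncard fun y hy => ⟨?_, hy.1.2⟩
      exact Finset.mem_coe.2 (Finset.mem_map.2 ⟨⟨y, hy.1.1⟩, Finset.mem_filter.2 ⟨Finset.mem_univ _, hy.2⟩, rfl⟩)
  rw [Finset.sum_map, Finset.sum_filter] at h1
  refine h1.trans (le_of_eq (Finset.sum_congr rfl fun x _ => ?_))
  rw [ite_not]
  rfl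

open Classical in
/-- the row `U` -/
theorem W.rowU (h : W A d j) [Fintype A] {p : ℕ} (hp : p.Prime) (hd : p ∣ Nat.card A / d) :
    (p - 1) * (A.index - 1) ≤ ∑ x : A, if orderOf (x : K) = p then fix A x - 1 else 0 := by
  have h1 := sigma_le (H := A)
    ((Finset.univ.filter fun x : A => orderOf (x : K) = p).map ⟨Subtype.val, Subtype.val_injective⟩)
    (fun x hx => by
      obtain ⟨y, -, rfl⟩ := Finset.mem_map.1 hx
      exact y.2) (j := p - 1) fun g hg => by
      refine (sub_one_le_ncard_orderOf hp (hd.trans (h.lo g hg))).trans ?_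
      refine Set.ncard_le_ncard fun y hy => ⟨?_, hy.2.2⟩
      exact Finset.mem_coe.2 (Finset.mem_map.2 ⟨⟨y, hy.2.1⟩, Finset.mem_filter.2 ⟨Finset.mem_univ _, hy.1⟩, rfl⟩)
  rw [Finset.sum_map, Finset.sum_filter] at h1
  exact h1

/-- Sylow subgroups of order `p ^ 2` -/
theorem W.fix_mul_le (h : W A d j) {x : K} {p : ℕ} (hp : p.Prime) (hx : orderOf x = p) (hd : p ∣ d) (hj : ¬ p ∣ j)
    (h2 : p ^ 2 ∣ Nat.card K) (h3 : ¬ p ^ 3 ∣ Nat.card K) :
    fix A x * p ^ 2 ≤ Nat.card (Subgroup.centralizer ({x} : Set K)) := by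
  have := Fact.mk hp
  have hf : (Nat.card K).factorization p = 2 := le_antisymm
    (Nat.le_of_lt_succ (lt_of_not_ge fun h4 => h3 ((hp.pow_dvd_iff_le_factorization Nat.card_pos.ne').2 h4)))
    ((hp.pow_dvd_iff_le_factorization Nat.card_pos.ne').1 h2)
  have hm : ¬ p ^ 2 ∣ j * (Nat.card A / d) := fun h4 => h3 (by
    have h6 := (Nat.Coprime.pow_left 2 (hp.coprime_iff_not_dvd.2 hj)).dvd_of_dvd_mul_left h4
    refine dvd_trans ?_ A.card_subgroup_dvd_card
    rw [← Nat.div_mul_cancel h.dvd, pow_succ]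
    exact Nat.mul_dvd_mul h6 hd)
  let C := Subgroup.centralizer ({x} : Set K)
  have key : ∀ β : K ⧸ A, x • β = β → ∃ P : Sylow p C, Nat.card P = p ^ 2 ∧ ∀ y ∈ (P : Subgroup C), (y : K) • β = β := by
    intro β hβ
    have h4 : ¬ p ∣ (stabilizer K β).index := by
      induction β using QuotientGroup.induction_on with
      | _ g =>
      rw [stabilizer_coe, index_cj]
      exact h.not_dvd hp hd
    obtain ⟨P, h5, h6⟩ := exists_sylow_le_of_not_dvd_index h4 (Y := Subgroup.zpowers x)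
      (IsPGroup.of_card (n := 1) (by rw [Nat.card_zpowers, hx, pow_one])) (Subgroup.zpowers_le.2 hβ)
    have h7 : Nat.card P = p ^ 2 := by rw [P.card_eq_multiplicity, hf]
    have h8 : (P : Subgroup K) ≤ C := fun y hy => Subgroup.mem_centralizer_singleton_iff.2 (congrArg Subtype.val
      ((IsPGroup.isMulCommutative_of_card_eq_prime_sq h7).is_comm.comm ⟨y, hy⟩ ⟨x, h5 (Subgroup.mem_zpowers x)⟩))
    refine ⟨P.subtype h8, ?_, fun y hy => h6 hy⟩
    rw [← h7]
    exact Nat.card_congr (Subgroup.subgroupOfEquivOfLe h8).toEquiv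
  rcases Nat.eq_zero_or_pos (fix A x) with h4 | h4
  · rw [h4, zero_mul]
    exact Nat.zero_le _
  obtain ⟨⟨β, hβ⟩⟩ := (Nat.card_pos_iff.1 h4).1
  obtain ⟨P, h5, h6⟩ := key β hβ
  have h7 : fixedBy (K ⧸ A) x ⊆ orbit C β := fun γ hγ => by
    obtain ⟨Q, h7, h8⟩ := key γ hγ
    obtain ⟨c, hc⟩ := exists_smul_eq C P Q
    refine ⟨c, h.eq_of_fix (Y := (Q : Subgroup C).map C.subtype) ?_ ?_ ?_⟩
    · rwa [Subgroup.card_map_of_injective C.subtype_injective, h7]
    · rintro _ ⟨y, hy, rfl⟩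
      rw [← hc] at hy
      obtain ⟨z, hz, rfl⟩ := hy
      show ((c : K) * z * (c : K)⁻¹) • (c : K) • β = (c : K) • β
      rw [mul_smul, mul_smul, inv_smul_smul, h6 z hz]
    · rintro _ ⟨y, hy, rfl⟩
      exact h8 y hy
  rw [← Gen.card_orbit_mul (L := C) β]
  refine Nat.mul_le_mul (Nat.card_le_card_of_injective _ (Set.inclusion_injective h7)) ?_
  rw [← h5]
  exact Subgroup.card_le_of_le fun y hy => h6 y hy

end Cfsg.Agent.TH.Spor
end

-- part: TH/Spor/EngA
section
/-!
# S3541, sporadic rows: the engine, bounds for the fixed points (helper26)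

A state lists the types of prime order, grouped by the prime, with their sizes and bounds for the fixed points.
-/

set_option autoImplicit false

namespace Cfsg.Agent.TH.Spor

open Cfsg Cfsg.Agent.TAB.Eng Cfsg.Agent.TAB.Use Cfsg.Agent.SB.SporL MulAction Finset

universe u

/-! ### small tools -/

/-- divisibility -/
def dv (p x : ℕ) : Bool := Nat.beq (Nat.mod x p) 0

theorem dv_iff {p x : ℕ} : dv p x = true ↔ p ∣ x := by
  rw [dv, Nat.beq_eq, Nat.dvd_iff_mod_eq_zero]
  rfl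

theorem dv_false {p x : ℕ} (h : dv p x = false) : ¬ p ∣ x := fun h1 => by
  rw [dv_iff.2 h1] at h
  cases h

/-- the minimum -/
noncomputable def mn (x y : ℕ) : ℕ := frc x fun x' => Nat.sub x' (Nat.sub x' y)

theorem le_mn {x y z : ℕ} (h1 : z ≤ x) (h2 : z ≤ y) : z ≤ mn x y := by
  rw [mn, frc_eq]
  show z ≤ x - (x - y)
  omega

/-- `List.map` -/
noncomputable def mapL {α β : Type} (f : α → β) (l : List α) : List β := List.rec [] (fun a _ ih => f a :: ih) l

theorem mapL_eq {α β : Type} (f : α → β) (l : List α) : mapL f l = l.map f := by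
  induction l with
  | nil => rfl
  | cons a l ih => exact congrArg (List.cons (f a)) ih

/-- `List.any` -/
noncomputable def anyL {α : Type} (f : α → Bool) (l : List α) : Bool :=
  List.rec false (fun a _ ih => cond (f a) true ih) l

theorem anyL_spec {α : Type} {f : α → Bool} {l : List α} (h : anyL f l = true) : ∃ a ∈ l, f a = true := by
  induction l with
  | nil => cases h
  | cons b l ih =>
    have h1 : cond (f b) true (anyL f l) = true := h
    cases hb : f b with
    | false =>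
      rw [hb] at h1
      obtain ⟨a, h2, h3⟩ := ih h1
      exact ⟨a, List.mem_cons_of_mem _ h2, h3⟩
    | true => exact ⟨b, List.mem_cons_self, hb⟩

theorem cond_le {b : Bool} {x y z : ℕ} (h1 : b = true → z ≤ x) (h2 : b = false → z ≤ y) : z ≤ cond b x y := by
  cases b
  · exact h2 rfl
  · exact h1 rfl

/-! ### definitions -/

/-- the numbers of a candidate -/
structure Cx where
  N : ℕ
  j : ℕ
  a : ℕ
  d : ℕ
  n : ℕ
  mu : ℕ
  m : ℕ
  k : ℕ

/-- the numbers are evaluated -/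
noncomputable def mkCx (N j a d n : ℕ) (κ : Cx → Bool) : Bool :=
  frc (Nat.div a d) fun mu => frc (Nat.mul j mu) fun m => frc (Nat.div (Nat.sub n 1) d) fun k =>
    κ ⟨N, j, a, d, n, mu, m, k⟩

theorem mkCx_eq (N j a d n : ℕ) (κ : Cx → Bool) :
    mkCx N j a d n κ = κ ⟨N, j, a, d, n, a / d, j * (a / d), (n - 1) / d⟩ := by
  rw [mkCx, frc_eq, frc_eq, frc_eq]
  rfl

/-- states: `(prime, [(type, size, bound)])` -/
abbrev St : Type := List (ℕ × List (ℕ × ℕ × ℕ))

/-- new bounds -/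
noncomputable def mapS (φ : ℕ → ℕ × ℕ × ℕ → ℕ) (S : St) : St :=
  mapL (fun g => (g.1, mapL (fun e => (e.1, e.2.1, φ g.1 e)) g.2)) S

/-- evaluate the bounds -/
noncomputable def frcE {β : Type} (L : List (ℕ × ℕ × ℕ)) : (List (ℕ × ℕ × ℕ) → β) → β :=
  List.rec (fun κ => κ []) (fun e _ ih κ => frc e.1 fun x => frc e.2.1 fun y => frc e.2.2 fun z =>
    ih fun L' => κ ((x, y, z) :: L')) L

theorem frcE_eq {β : Type} (L : List (ℕ × ℕ × ℕ)) (κ : List (ℕ × ℕ × ℕ) → β) : frcE L κ = κ L := by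
  induction L generalizing κ with
  | nil => rfl
  | cons e L ih =>
    show (frc e.1 fun x => frc e.2.1 fun y => frc e.2.2 fun z => frcE L fun L' => κ ((x, y, z) :: L')) = _
    rw [frc_eq, frc_eq, frc_eq, ih]

/-- evaluate a state -/
noncomputable def frcS {β : Type} (S : St) : (St → β) → β :=
  List.rec (fun κ => κ []) (fun g _ ih κ => frc g.1 fun p => frcE g.2 fun L => ih fun S' => κ ((p, L) :: S')) S

theorem frcS_eq {β : Type} (S : St) (κ : St → β) : frcS S κ = κ S := by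
  induction S generalizing κ with
  | nil => rfl
  | cons g S ih =>
    show (frc g.1 fun p => frcE g.2 fun L => frcS S fun S' => κ ((p, L) :: S')) = _
    rw [frc_eq, frcE_eq, ih]

/-- rounding -/
noncomputable def rnd (c : Cx) (p ct f : ℕ) : ℕ :=
  frc (Nat.div c.n (Nat.gcd c.n ct)) fun u => frc (Nat.mul u (Nat.div f u)) fun f1 =>
    cond (dv p c.d) f1 (cond (Nat.ble f1 c.k) 0 f1)

/-- the first bounds -/
noncomputable def ini (c : Cx) (p : ℕ) (e : ℕ × ℕ × ℕ) : ℕ :=
  cond (dv p c.a) (rnd c p e.2.1 (mn (Nat.div (Nat.mul c.n (Nat.sub c.a 1)) e.2.1)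
    (cond (dv p c.m) (cond (Nat.beq e.2.2 0) c.n
      (cond (dv p c.d && !dv p c.j && dv (p ^ 2) c.N && !dv (p ^ 3) c.N) (Nat.div e.2.2 (p ^ 2)) c.n)) 1))) 0

/-- the bound for the type `q` is less than `l` -/
noncomputable def upd (c : Cx) (q l p : ℕ) (e : ℕ × ℕ × ℕ) : ℕ :=
  cond (Nat.beq e.1 q) (rnd c p e.2.1 (mn e.2.2 (Nat.sub l 1))) e.2.2

/-- the upper bound for the number of elements of a type in `A` -/
noncomputable def hiN (c : Cx) (G ct : ℕ) : ℕ := mn (Nat.div (Nat.mul G ct) c.n) (Nat.sub c.a 1)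

/-- the lower bound -/
noncomputable def loN (c : Cx) (L ct : ℕ) : ℕ := Nat.div (Nat.add (Nat.mul L ct) (Nat.sub c.n 1)) c.n

/-- the bound of the row `U` -/
noncomputable def usum (c : Cx) (L : List (ℕ × ℕ × ℕ)) : ℕ :=
  List.rec 0 (fun e _ ih => frc e.2.2 fun f => Nat.add (Nat.mul (hiN c f e.2.1) (Nat.sub f 1)) ih) L

/-- the test `U` -/
noncomputable def uT (c : Cx) (S : St) : Bool :=
  anyL (fun g => cond (dv g.1 c.mu) (Nat.blt (usum c g.2) (Nat.mul (Nat.sub g.1 1) (Nat.sub c.n 1))) false) S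

/-- the bound of a type of prime order -/
noncomputable def lkS (n : ℕ) (S : St) (q : ℕ) : ℕ :=
  List.rec n (fun g _ ih => List.rec ih (fun e _ ih' => cond (Nat.beq e.1 q) e.2.2 ih') g.2) S

/-- the description of a type: number, order, size, types of some powers -/
abbrev Ze : Type := ℕ × ℕ × ℕ × List ℕ

/-- the bound of a type -/
noncomputable def gT (c : Cx) (S : St) (z : Ze) : ℕ :=
  cond (dv z.2.1 c.a) (List.rec (cond (dv z.2.1 c.m) c.n 1) (fun q _ ih => mn (lkS c.n S q) ih) z.2.2.2) 0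

/-- an empty box -/
noncomputable def boxT (c : Cx) (S : St) (Z : List Ze) : Bool :=
  frc (Nat.pow c.d 7) fun d7 => anyL (fun z => cond (dv (Nat.gcd z.2.1 d7) c.m) false
    (Nat.blt (hiN c (gT c S z) z.2.2.1) (loN c 1 z.2.2.1))) Z

/-! ### the meaning -/

variable {K : Type u} [Group K] {D : Dat} {T : TD K D} {A : Subgroup K} {d j : ℕ} {c : Cx}

/-- the shape of a state, with a property of the bounds -/
def Gd (T : TD K D) (Q : K → ℕ → Prop) (S : St) : Prop :=
  ∀ g ∈ S, g.1.Prime ∧ (∀ x, orderOf x = g.1 → T.ty x ∈ g.2.map Prod.fst) ∧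
    ∀ e ∈ g.2, D.ord e.1 = g.1 ∧ D.cnt e.1 = e.2.1 ∧ e.1 < D.n ∧ ∀ x, T.ty x = e.1 → Q x e.2.2

theorem Gd.mapS {Q Q' : K → ℕ → Prop} {S : St} (h : Gd T Q S) {φ : ℕ → ℕ × ℕ × ℕ → ℕ}
    (hφ : ∀ p e x, p.Prime → orderOf x = p → T.ty x = e.1 → D.cnt e.1 = e.2.1 → Q x e.2.2 → Q' x (φ p e)) :
    Gd T Q' (mapS φ S) := by
  intro g' hg'
  rw [Spor.mapS, mapL_eq] at hg'
  obtain ⟨g, hg, rfl⟩ := List.mem_map.1 hg'
  obtain ⟨h1, h2, h3⟩ := h g hg
  refine ⟨h1, fun x hx => ?_, fun e' he' => ?_⟩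
  · rw [mapL_eq, List.map_map]
    exact h2 x hx
  · rw [mapL_eq] at he'
    obtain ⟨e, he, rfl⟩ := List.mem_map.1 he'
    obtain ⟨h4, h5, h6, h7⟩ := h3 e he
    exact ⟨h4, h5, h6, fun x hx => hφ g.1 e x h1 (by rw [T.ord, hx, h4]) hx h5 (h7 x hx)⟩

/-- the entry describes its type -/
def ZOk (D : Dat) (z : Ze) : Prop :=
  z.1 < D.n ∧ D.ord z.1 = z.2.1 ∧ z.2.1 ≠ 1 ∧ D.cnt z.1 = z.2.2.1 ∧ ∀ q ∈ z.2.2.2, ∃ e, D.pwf z.1 e = q

/-- the situation -/
structure Hy (T : TD K D) (A : Subgroup K) (d j : ℕ) (c : Cx) : Prop where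
  mass : T.Mass
  unif : Unif T
  w : W A d j
  eq : c = ⟨D.N, j, Nat.card A, d, A.index, Nat.card A / d, j * (Nat.card A / d), (A.index - 1) / d⟩

theorem num_def (T : TD K D) (A : Subgroup K) (t : ℕ) : num T A t = Nat.card {s : A // T.ty s = t} := rfl

theorem fix_def (A : Subgroup K) (x : K) : fix A x = Nat.card (fixedBy (K ⧸ A) x) := rfl

variable [Finite K]

open Classical in
theorem index_mul_num [Fintype K] (T : TD K D) (A : Subgroup K) (t : ℕ) :
    A.index * num T A t = ∑ g : K, if T.ty g = t then fix A g else 0 := by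
  have := Fintype.ofFinite (K ⧸ A)
  have h1 : ∀ g : K, (if T.ty g = t then fix A g else 0) =
      ∑ β : K ⧸ A, if T.ty g = t ∧ g • β = β then 1 else 0 := fun g => by
    split_ifs with h
    · rw [fix_def, Nat.card_eq_fintype_card, Fintype.card_subtype, Finset.card_filter]
      exact Finset.sum_congr rfl fun β _ => by simp only [h, true_and, mem_fixedBy]
    · simp only [h, false_and, if_false, Finset.sum_const_zero]
  simp only [h1]
  rw [Finset.sum_comm, Finset.sum_congr rfl (g := fun _ => num T A t), Finset.sum_const, Finset.card_univ,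
    ← Nat.card_eq_fintype_card, smul_eq_mul]
  · rfl
  intro β _
  induction β using QuotientGroup.induction_on with
  | _ y =>
  rw [← Finset.card_filter, ← Fintype.card_subtype, ← Nat.card_eq_fintype_card]
  refine Nat.card_congr ⟨fun g => ⟨⟨y⁻¹ * g * y, mem_cj.1 ((smul_coe_eq_iff _ _).1 g.2.2)⟩, ?_⟩,
    fun s => ⟨y * s.1 * y⁻¹, (T.conj _ _).trans s.2, (smul_coe_eq_iff _ _).2 (conj_mem_cj y s.1.2)⟩,
    fun g => Subtype.ext (by simp only [mul_assoc, _root_.MulAction.Quotient.smul_mk, _root_.smul_eq_mul, _root_.mul_inv_cancel_left, _root_.mul_inv_cancel, _root_.mul_one]), fun s => Subtype.ext (Subtype.ext (by simp only [mul_assoc, _root_.inv_mul_cancel_left, _root_.inv_mul_cancel, _root_.mul_one]))⟩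
  have h2 := T.conj g y⁻¹
  rw [inv_inv] at h2
  exact h2.trans g.2.1

omit [Finite K] in
open Classical in
theorem mul_cnt [Fintype K] (hm : T.Mass) {t : ℕ} (ht : t < D.n) (G : ℕ) :
    G * D.cnt t = ∑ g : K, if T.ty g = t then G else 0 := by
  rw [← hm.2 t ht, Nat.card_eq_fintype_card, Fintype.card_subtype, ← Finset.sum_filter, Finset.sum_const, smul_eq_mul,
    mul_comm]

theorem num_mul_le (hm : T.Mass) {t G : ℕ} (ht : t < D.n) (h : ∀ x, T.ty x = t → fix A x ≤ G) :
    A.index * num T A t ≤ G * D.cnt t := by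
  have := Fintype.ofFinite K
  rw [index_mul_num, mul_cnt hm ht]
  refine Finset.sum_le_sum fun g _ => ?_
  split_ifs with h1
  exacts [h g h1, le_rfl]

theorem le_num_mul (hm : T.Mass) {t G : ℕ} (ht : t < D.n) (h : ∀ x, T.ty x = t → G ≤ fix A x) :
    G * D.cnt t ≤ A.index * num T A t := by
  have := Fintype.ofFinite K
  rw [index_mul_num, mul_cnt hm ht]
  refine Finset.sum_le_sum fun g _ => ?_
  split_ifs with h1
  exacts [h g h1, le_rfl]

theorem num_le_pred {t : ℕ} (ht : D.ord t ≠ 1) : num T A t ≤ Nat.card A - 1 := by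
  rw [← ncard_sdiff_one, ← Nat.card_coe_set_eq]
  refine Nat.card_le_card_of_injective (fun s => ⟨s.1.1, s.1.2, fun h => ht ?_⟩)
    fun a b hab => Subtype.ext (Subtype.ext (congrArg Subtype.val hab :))
  rw [← s.2, ← T.ord, show (s.1 : K) = 1 from h, orderOf_one]

theorem Unif.fix_eq (hu : Unif T) {x y : K} (hp : (orderOf x).Prime) (h : T.ty x = T.ty y) : fix A x = fix A y := by
  obtain ⟨k, hk⟩ := hu x y hp h
  obtain ⟨l, hl⟩ := hu y x (by rwa [T.ord, ← h, ← T.ord]) h.symm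
  exact le_antisymm (fix_le_of_isConj A hk) (fix_le_of_isConj A hl)

theorem Hy.n_pos (_ : Hy T A d j c) : 0 < A.index := Nat.pos_of_ne_zero Subgroup.index_ne_zero_of_finite

theorem Hy.fix_mul (H : Hy T A d j c) {x : K} (hp : (orderOf x).Prime) :
    fix A x * D.cnt (T.ty x) = A.index * num T A (T.ty x) :=
  le_antisymm (le_num_mul H.mass (T.lt x) fun _ hy => (H.unif.fix_eq hp hy.symm).le)
    (num_mul_le H.mass (T.lt x) fun _ hy => (H.unif.fix_eq hp hy.symm).ge)

theorem fix_le_index (A : Subgroup K) (x : K) : fix A x ≤ A.index :=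
  Nat.card_le_card_of_injective _ Subtype.val_injective

theorem Hy.rnd (H : Hy T A d j c) {x : K} {p ct f : ℕ} (hp : p.Prime) (hx : orderOf x = p)
    (hc : D.cnt (T.ty x) = ct) (hf : fix A x ≤ f) : fix A x ≤ rnd c p ct f := by
  have h1 := H.fix_mul (hx ▸ hp)
  have h0 : 0 < Nat.gcd A.index ct := Nat.gcd_pos_of_pos_left _ H.n_pos
  have h2 : A.index / Nat.gcd A.index ct ∣ fix A x := by
    refine (Nat.coprime_div_gcd_div_gcd h0).dvd_of_dvd_mul_right ⟨num T A (T.ty x), ?_⟩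
    refine Nat.eq_of_mul_eq_mul_right h0 ?_
    rw [mul_assoc, Nat.div_mul_cancel (Nat.gcd_dvd_right _ _), mul_right_comm,
      Nat.div_mul_cancel (Nat.gcd_dvd_left _ _), ← h1, hc]
  have h3 : fix A x ≤ A.index / Nat.gcd A.index ct * (f / (A.index / Nat.gcd A.index ct)) := by
    obtain ⟨t, ht⟩ := h2
    rw [ht] at hf ⊢
    refine Nat.mul_le_mul_left _ ((Nat.le_div_iff_mul_le ?_).2 (mul_comm t _ ▸ hf))
    exact Nat.div_pos (Nat.le_of_dvd H.n_pos (Nat.gcd_dvd_left _ _)) h0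
  rw [Spor.rnd, frc_eq, frc_eq, H.eq]
  refine cond_le (fun _ => h3) fun h4 => cond_le (fun h5 => ?_) fun _ => h3
  by_contra h6
  have h7 := H.w.sig (hx ▸ hp) (hx ▸ dv_false h4) (by omega)
  have h8 := h3.trans (Nat.le_of_ble_eq_true h5)
  exact absurd (h7.trans h8) (Nat.not_succ_le_self _)

theorem cnt_pos (hm : T.Mass) (x : K) : 0 < D.cnt (T.ty x) := by
  rw [← hm.2 _ (T.lt x)]
  exact Nat.card_pos_iff.2 ⟨⟨⟨x, rfl⟩⟩, inferInstance⟩

/-- the bounds for the centralizers -/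
def QC (x : K) (b : ℕ) : Prop := b = 0 ∨ Nat.card (Subgroup.centralizer ({x} : Set K)) ≤ b

theorem Hy.ini (H : Hy T A d j c) {S : St} (h : Gd T QC S) : Gd T (fun x f => fix A x ≤ f) (mapS (ini c) S) := by
  refine h.mapS fun p e x hp hx h1 h2 h3 => ?_
  rw [← h1] at h2
  have h4 := H.eq
  refine cond_le (fun _ => H.rnd hp hx h2 (le_mn ?_ ?_)) fun h5 => ?_
  · rw [h4, ← h2]
    refine (Nat.le_div_iff_mul_le (cnt_pos H.mass x)).2 ?_
    rw [H.fix_mul (hx ▸ hp)]
    exact Nat.mul_le_mul_left _ (num_le_pred (by rw [← T.ord, hx]; exact hp.one_lt.ne'))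
  · subst h4
    refine cond_le (fun _ => cond_le (fun _ => fix_le_index A x) fun h5 => cond_le (fun h6 => ?_)
      fun _ => fix_le_index A x) fun h5 => H.w.fix_le_one (hx ▸ dv_false h5)
    simp only [Bool.and_eq_true, Bool.not_eq_true', dv_iff] at h6
    have h7 := H.w.fix_mul_le hp hx h6.1.1.1 (dv_false h6.1.1.2) (H.mass.1 ▸ h6.1.2) (H.mass.1 ▸ dv_false h6.2)
    refine (Nat.le_div_iff_mul_le (pow_pos hp.pos 2)).2 (h7.trans (h3.resolve_left fun h8 => ?_))
    rw [h8] at h5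
    cases h5
  · subst h4
    exact (fix_eq_zero (hx ▸ dv_false h5)).le

theorem Hy.upd (H : Hy T A d j c) {S : St} (h : Gd T (fun x f => fix A x ≤ f) S) {q l : ℕ}
    (hq : ¬ ∀ x, T.ty x = q → l ≤ fix A x) : Gd T (fun x f => fix A x ≤ f) (mapS (upd c q l) S) := by
  refine h.mapS fun p e x hp hx h1 h2 h3 => cond_le (fun h4 => H.rnd hp hx (h1 ▸ h2) (le_mn h3 ?_)) fun _ => h3
  by_contra h5
  refine hq fun y hy => ?_
  rw [← H.unif.fix_eq (hx ▸ hp) (h1.trans ((Nat.eq_of_beq_eq_true h4).trans hy.symm))]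
  have h6 : ¬ fix A x ≤ l - 1 := h5
  omega

theorem Hy.hiN (H : Hy T A d j c) {t G : ℕ} (ht : t < D.n) (h1 : D.ord t ≠ 1) (h : ∀ x, T.ty x = t → fix A x ≤ G) :
    num T A t ≤ hiN c G (D.cnt t) := by
  rw [H.eq]
  exact le_mn ((Nat.le_div_iff_mul_le H.n_pos).2 (mul_comm A.index _ ▸ num_mul_le H.mass ht h)) (num_le_pred h1)

theorem Hy.loN (H : Hy T A d j c) {t L : ℕ} (ht : t < D.n) (h : ∀ x, T.ty x = t → L ≤ fix A x) :
    loN c L (D.cnt t) ≤ num T A t := by
  rw [H.eq]
  have h1 := le_num_mul H.mass ht h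
  have h2 := H.n_pos
  refine Nat.le_of_lt_succ ((Nat.div_lt_iff_lt_mul h2).2 ?_)
  show L * D.cnt t + (A.index - 1) < (num T A t + 1) * A.index
  rw [add_mul, one_mul, mul_comm (num T A t)]
  omega

omit [Finite K] in
open Classical in
theorem num_mul [Fintype A] (t G : ℕ) : num T A t * G = ∑ x : A, if T.ty x = t then G else 0 := by
  rw [num_def, Nat.card_eq_fintype_card, Fintype.card_subtype, ← Finset.sum_filter, Finset.sum_const, smul_eq_mul]

theorem Hy.uT (H : Hy T A d j c) {S : St} (h : Gd T (fun x f => fix A x ≤ f) S) : ¬ uT c S = true := by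
  classical
  intro h1
  have := Fintype.ofFinite A
  obtain ⟨g, hg, h2⟩ := anyL_spec h1
  obtain ⟨hp, h3, h4⟩ := h g hg
  have key : ∀ (L : List (ℕ × ℕ × ℕ)), (∀ e ∈ L, e ∈ g.2) →
      ∑ x : A, (if T.ty x ∈ L.map Prod.fst then fix A (x : K) - 1 else 0) ≤ usum c L := by
    intro L hL
    induction L with
    | nil => exact (Finset.sum_eq_zero fun x _ => if_neg List.not_mem_nil).le
    | cons e L ih =>
      obtain ⟨h5, h6, h7, h8⟩ := h4 e (hL e List.mem_cons_self)
      have h9 : usum c (e :: L) = Spor.hiN c e.2.2 e.2.1 * (e.2.2 - 1) + usum c L :=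
        frc_eq e.2.2 fun f => Spor.hiN c f e.2.1 * (f - 1) + usum c L
      rw [h9, ← h6]
      refine le_trans ?_ (Nat.add_le_add (Nat.mul_le_mul_right _ (H.hiN h7 (h5 ▸ hp.one_lt.ne') h8))
        (ih fun e' he' => hL e' (List.mem_cons_of_mem _ he')))
      rw [num_mul, ← Finset.sum_add_distrib]
      refine Finset.sum_le_sum fun x _ => ?_
      by_cases h10 : T.ty x = e.1
      · rw [if_pos h10, if_pos (by rw [List.map_cons, h10]; exact List.mem_cons_self)]
        exact (Nat.sub_le_sub_right (h8 x h10) 1).trans (Nat.le_add_right _ _)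
      · simp only [List.map_cons, List.mem_cons, h10, false_or, if_false, zero_add, le_refl]
  cases h5 : dv g.1 c.mu with
  | false =>
    rw [h5] at h2
    cases h2
  | true =>
    rw [h5, cond_true, Nat.blt_eq] at h2
    rw [H.eq] at h5
    have h6 := (H.w.rowU hp (dv_iff.1 h5)).trans (le_trans (Finset.sum_le_sum fun x _ => ?_) (key g.2 fun _ h => h))
    · rw [H.eq] at h2 h6
      exact absurd h6 (not_le.2 h2)
    · split_ifs with h7 h8
      exacts [le_rfl, absurd (h3 x h7) h8, Nat.zero_le _, le_rfl]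

theorem Hy.lkS (H : Hy T A d j c) {S : St} (h : Gd T (fun x f => fix A x ≤ f) S) (x : K) :
    fix A x ≤ lkS c.n S (T.ty x) := by
  induction S with
  | nil =>
    rw [H.eq]
    exact fix_le_index A x
  | cons g S ih =>
    have h1 := ih fun g' hg' => h g' (List.mem_cons_of_mem _ hg')
    have h2 := (h g List.mem_cons_self).2.2
    show fix A x ≤ List.rec (Spor.lkS c.n S (T.ty x)) (fun e _ ih' => cond (Nat.beq e.1 (T.ty x)) e.2.2 ih') g.2
    generalize g.2 = L at h2
    induction L with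
    | nil => exact h1
    | cons e L ih' =>
      exact cond_le (fun h3 => (h2 e List.mem_cons_self).2.2.2 x (Nat.eq_of_beq_eq_true h3).symm)
        fun _ => ih' fun e' he' => h2 e' (List.mem_cons_of_mem _ he')

theorem Hy.gT (H : Hy T A d j c) {S : St} (h : Gd T (fun x f => fix A x ≤ f) S) {z : Ze} (hz : ZOk D z) (x : K)
    (hx : T.ty x = z.1) : fix A x ≤ gT c S z := by
  obtain ⟨-, h1, -, -, h2⟩ := hz
  have h3 : orderOf x = z.2.1 := by rw [T.ord, hx, h1]
  refine cond_le (fun _ => ?_) fun h4 => ?_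
  · generalize z.2.2.2 = L at h2
    induction L with
    | nil =>
      rw [H.eq]
      exact cond_le (fun _ => fix_le_index A x) fun h5 => H.w.fix_le_one (h3 ▸ dv_false h5)
    | cons q L ih =>
      refine le_mn ?_ (ih fun q' hq' => h2 q' (List.mem_cons_of_mem _ hq'))
      obtain ⟨e, he⟩ := h2 q List.mem_cons_self
      rw [← he, ← hx, ← T.pow]
      exact (fix_le_pow A x e).trans (H.lkS h _)
  · rw [H.eq] at h4
    exact (fix_eq_zero (h3 ▸ dv_false h4)).le

theorem Hy.one (H : Hy T A d j c) {z : Ze} (hz : ZOk D z) (h : dv (Nat.gcd z.2.1 (Nat.pow c.d 7)) c.m = false) (x : K)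
    (hx : T.ty x = z.1) : 1 ≤ fix A x := by
  rw [H.eq] at h
  exact H.w.one_le_fix (e := 7) (by rw [T.ord, hx, hz.2.1]; exact dv_false h)

theorem Hy.boxT (H : Hy T A d j c) {S : St} (h : Gd T (fun x f => fix A x ≤ f) S) {Z : List Ze}
    (hZ : ∀ z ∈ Z, ZOk D z) : ¬ boxT c S Z = true := by
  intro h1
  rw [Spor.boxT, frc_eq] at h1
  obtain ⟨z, hz, h2⟩ := anyL_spec h1
  have h3 := hZ z hz
  cases h4 : dv (Nat.gcd z.2.1 (Nat.pow c.d 7)) c.m with
  | true =>
    rw [h4] at h2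
    cases h2
  | false =>
    rw [h4, cond_false, Nat.blt_eq, ← h3.2.2.2.1] at h2
    exact absurd ((H.loN h3.1 (H.one h3 h4)).trans (H.hiN h3.1 (h3.2.1 ▸ h3.2.2.1) (H.gT h h3))) (not_le.2 h2)

end Cfsg.Agent.TH.Spor
end

-- part: TH/Spor/EngB
section
/-!
# S3541, sporadic rows: the engine, certificates (helper26)
-/

set_option autoImplicit false

namespace Cfsg.Agent.TH.Spor

open Cfsg Cfsg.Agent.TAB.Eng Cfsg.Agent.TAB.Use Cfsg.Agent.SB.SporL MulAction Finset

universe u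

/-- rows: the constituents `(degree, coefficient)` and the values -/
abbrev Rw : Type := List (ℕ × ℤ) × List ℤ

/-- the sign rule -/
noncomputable def sgn (c : Cx) (y : ℤ) (L : List (ℕ × ℤ)) : Bool :=
  allL (fun p => cond (dv (Nat.mul c.mu p.1) c.N) (Int.rec (fun _ => true) (fun _ => false) (Int.mul y p.2)) true) L

/-- the rows of a table -/
noncomputable def prep (dg : List ℕ) (R : Rows) : List Rw :=
  mapL (fun r => (mapL (fun p => (ntd dg 0 p.1, p.2)) r.1, r.2)) R.rel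

/-- evaluate rows -/
noncomputable def frcRw {β : Type} (L : List Rw) : (List Rw → β) → β :=
  List.rec (fun κ => κ []) (fun r _ ih κ => frcW r.1 fun x => frcLZ r.2 fun y => ih fun L' => κ ((x, y) :: L')) L

theorem frcRw_eq {β : Type} (L : List Rw) (κ : List Rw → β) : frcRw L κ = κ L := by
  induction L generalizing κ with
  | nil => rfl
  | cons r L ih =>
    show (frcW r.1 fun x => frcLZ r.2 fun y => frcRw L fun L' => κ ((x, y) :: L')) = _
    rw [frcW_eq, frcLZ_eq, ih]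

/-- evaluate the table -/
noncomputable def frcR (R : Rows) (κ : List Rw → Bool) : Bool := frcL R.deg fun dg => frcRw (prep dg R) κ

theorem frcR_eq (R : Rows) (κ : List Rw → Bool) : frcR R κ = κ (prep R.deg R) := by
  rw [frcR, frcL_eq, frcRw_eq]

/-- the constituents exist -/
noncomputable def okIdx (R : Rows) : Bool :=
  frc R.n fun n => allL (fun r => allL (fun p => Nat.blt p.1 n) r.1) R.rel

/-- the combination of the rows -/
noncomputable def accC (c : Cx) (RL : List Rw) (ce : List (ℤ × ℕ)) : List ℤ → (List ℤ → Bool) → Bool :=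
  List.rec (fun V κ => κ V) (fun p _ ih V κ => Prod.rec (fun L w =>
    cond (sgn c p.1 L) (frcLZ (axz p.1 V w) fun V' => ih V' κ) false) (ntd RL ([], []) p.2)) ce

/-- the lower bound for the fixed points -/
noncomputable def lT (c : Cx) (d7 q l : ℕ) (z : Ze) : ℕ :=
  cond (Nat.beq z.1 q) l (cond (dv (Nat.gcd z.2.1 d7) c.m) 0 1)

/-- the maximum over the boxes is negative -/
noncomputable def bm (c : Cx) (S : St) (d7 q l s : ℕ) (Z : List Ze) : List ℤ → ℕ → ℕ → Bool :=
  List.rec (fun _ x y => Nat.blt x y) (fun z _ ih V x y => List.rec false (fun w V' _ =>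
    frc (gT c S z) fun G => Int.rec
      (fun m => frc (Nat.add x (Nat.mul (hiN c G z.2.2.1) m)) fun x' => ih V' x' y)
      (fun m => frc (Nat.add y (Nat.mul (loN c (lT c d7 q l z) z.2.2.1) (Nat.succ m))) fun y' => ih V' x y')
      (Int.add w (Int.ofNat (Nat.mul s (Nat.sub G 1))))) V) Z

theorem bm_cons (c : Cx) (S : St) (d7 q l s : ℕ) (z : Ze) (Z : List Ze) (w : ℤ) (V : List ℤ) (x y : ℕ) :
    bm c S d7 q l s (z :: Z) (w :: V) x y = Int.rec
      (fun m => bm c S d7 q l s Z V (x + hiN c (gT c S z) z.2.2.1 * m) y)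
      (fun m => bm c S d7 q l s Z V x (y + loN c (lT c d7 q l z) z.2.2.1 * (m + 1)))
      (w + ((s * (gT c S z - 1) : ℕ) : ℤ)) := by
  have h : bm c S d7 q l s (z :: Z) (w :: V) x y = frc (gT c S z) fun G => Int.rec
      (fun m => frc (Nat.add x (Nat.mul (hiN c G z.2.2.1) m)) fun x' => bm c S d7 q l s Z V x' y)
      (fun m => frc (Nat.add y (Nat.mul (loN c (lT c d7 q l z) z.2.2.1) (Nat.succ m))) fun y' =>
        bm c S d7 q l s Z V x y') (Int.add w (Int.ofNat (Nat.mul s (Nat.sub G 1)))) := rfl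
  rw [h]
  simp only [frc_eq]
  rfl

/-- a step: type, bound, multipliers of the trivial character, of the row `S` and of the rows of the table -/
abbrev Step : Type := ℕ × ℕ × ℤ × ℕ × List (ℤ × ℕ)

/-- the check of a step -/
noncomputable def far (c : Cx) (RL : List Rw) (Z : List Ze) (nD : ℕ) (S : St) (st : Step) : Bool :=
  accC c RL st.2.2.2.2 (List.replicate nD st.2.2.1) fun V => List.rec false (fun v V' _ =>
    frc (Nat.pow c.d 7) fun d7 => Int.rec (fun x => bm c S d7 st.1 st.2.1 st.2.2.2.1 Z V' x 0)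
      (fun y => bm c S d7 st.1 st.2.1 st.2.2.2.1 Z V' 0 (Nat.succ y))
      (Int.sub v (Int.add (Int.mul st.2.2.1 (Int.ofNat c.a))
        (Int.ofNat (Nat.mul st.2.2.2.1 (Nat.mul (Nat.sub c.mu 1) (Nat.sub c.n 1))))))) V

/-- the steps -/
noncomputable def run (c : Cx) (RL : List Rw) (Z : List Ze) (nD : ℕ) (L : List Step) : St → Bool :=
  List.rec (fun S => cond (uT c S) true (boxT c S Z)) (fun st _ ih S => cond (far c RL Z nD S st)
    (cond (Nat.beq st.2.1 0) true (frcS (mapS (upd c st.1 st.2.1) S) ih)) false) L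

/-- a candidate: order, subdegree, steps -/
noncomputable def okC (N j : ℕ) (P : St) (RL : List Rw) (Z : List Ze) (nD : ℕ) (x : ℕ × ℕ × List Step) : Bool :=
  frc (Nat.div N x.1) fun n => mkCx N j x.1 x.2.1 n fun c => frcS (mapS (ini c) P) (run c RL Z nD x.2.2)

/-- the candidates -/
noncomputable def okL (D : Dat) (R : Rows) (j : ℕ) (P : St) (Z : List Ze) (CL : List (ℕ × ℕ × List Step)) : Bool :=
  frc D.N fun N => frc D.n fun nD => frcR R fun RL => allL (okC N j P RL Z nD) CL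

/-- the list of the types -/
noncomputable def okZ (D : Dat) (Z : List Ze) : Bool :=
  Nat.beq (D.ord 0) 1 && Nat.blt 0 D.n && decide (Z.map Prod.fst = List.range' 1 (D.n - 1)) &&
    allL (fun z => Nat.beq (D.ord z.1) z.2.1 && !Nat.beq z.2.1 1 && Nat.beq (D.cnt z.1) z.2.2.1 &&
      allL (fun q => anyL (fun p => Nat.beq (D.pwf z.1 p.1) q) (D.pw z.1)) z.2.2.2) Z

/-- the list of the types of prime order -/
noncomputable def okS (D : Dat) (L : List (ℕ × ℕ)) (P : St) : Bool :=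
  allL (fun g => isPr g.1 && allL (fun t => !Nat.beq (D.ord t) g.1 || memL t (g.2.map Prod.fst)) (List.range D.n) &&
    allL (fun e => Nat.beq (D.ord e.1) g.1 && Nat.beq (D.cnt e.1) e.2.1 && Nat.blt e.1 D.n &&
      (Nat.beq e.2.2 0 || decide ((e.1, e.2.2) ∈ L))) g.2) P

variable {K : Type u} [Group K] {D : Dat} {T : TD K D} {A : Subgroup K} {d j : ℕ} {c : Cx}

/-- the meaning of `okZ` -/
structure ZS (D : Dat) (Z : List Ze) : Prop where
  zero : D.ord 0 = 1
  pos : 0 < D.n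
  seq : Z.map Prod.fst = List.range' 1 (D.n - 1)
  ok : ∀ z ∈ Z, ZOk D z

theorem zs_of {Z : List Ze} (h : okZ D Z = true) : ZS D Z := by
  simp only [okZ, Bool.and_eq_true, Nat.beq_eq, Nat.blt_eq, decide_eq_true_eq] at h
  obtain ⟨⟨⟨h1, h2⟩, h3⟩, h4⟩ := h
  refine ⟨h1, h2, h3, fun z hz => ?_⟩
  have h5 := allL_spec h4 z hz
  simp only [Bool.and_eq_true, Nat.beq_eq] at h5
  obtain ⟨⟨⟨h6, h7⟩, h8⟩, h9⟩ := h5
  refine ⟨?_, h6, ne_of_not_beq h7, h8, fun q hq => ?_⟩
  · have h10 := List.mem_range'_1.1 (h3 ▸ List.mem_map_of_mem hz)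
    omega
  · obtain ⟨p, -, h10⟩ := anyL_spec (allL_spec h9 q hq)
    exact ⟨p.1, Nat.eq_of_beq_eq_true h10⟩

theorem gd_of {L : List (ℕ × ℕ)} {P : St} (h : okS D L P = true)
    (hL : ∀ p ∈ L, ∀ x, T.ty x = p.1 → Nat.card (Subgroup.centralizer ({x} : Set K)) ≤ p.2) : Gd T QC P := by
  intro g hg
  have h1 := allL_spec h g hg
  simp only [Bool.and_eq_true] at h1
  refine ⟨isPr_spec h1.1.1, fun x hx => ?_, fun e he => ?_⟩
  · have h2 := allL_spec h1.1.2 _ (List.mem_range.2 (T.lt x))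
    rw [← T.ord, hx, Nat.beq_refl] at h2
    exact memL_spec h2
  · have h2 := allL_spec h1.2 e he
    simp only [Bool.and_eq_true, Bool.or_eq_true, Nat.beq_eq, Nat.blt_eq, decide_eq_true_eq] at h2
    exact ⟨h2.1.1.1, h2.1.1.2, h2.1.2, fun x hx => h2.2.imp id fun h3 => hL (e.1, e.2.2) h3 x hx⟩

/-- the sign rule holds for the row -/
def RowOk (T : TD K D) (A : Subgroup K) (c : Cx) (r : Rw) : Prop :=
  ∀ y : ℤ, sgn c y r.1 = true → 0 ≤ y * ∑ t ∈ range D.n, (num T A t : ℤ) * nth r.2 t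

theorem allL_cons {β : Type} {f : β → Bool} {a : β} {r : List β} (h : allL f (a :: r) = true) :
    f a = true ∧ allL f r = true := by
  have h1 : cond (f a) (allL f r) false = true := h
  cases h2 : f a with
  | false =>
    rw [h2] at h1
    cases h1
  | true =>
    rw [h2] at h1
    exact ⟨rfl, h1⟩

theorem ntd_eq (l : List ℕ) (n : ℕ) : ntd l 0 n = l.getD n 0 := by
  induction l generalizing n with
  | nil => rfl
  | cons a l ih => cases n with
    | zero => rfl
    | succ n => exact ih n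

theorem rowOk_of (hC : BoxCH) {K : Type} [Group K] [Finite K] {T : TD K D} {A : Subgroup K} (H : Hy T A d j c)
    {R : Rows} (h : Tab T R) (hi : okIdx R = true) : ∀ r ∈ prep R.deg R, RowOk T A c r := by
  obtain ⟨χ, hE, hR⟩ := h
  intro r' hr' y hy
  rw [prep, mapL_eq] at hr'
  obtain ⟨r, hr, rfl⟩ := List.mem_map.1 hr'
  rw [okIdx, frc_eq] at hi
  have := Fintype.ofFinite A
  have h1 : ∀ L : List (ℕ × ℤ), (∀ p ∈ L, p.1 < R.n) → sgn c y (mapL (fun p => (ntd R.deg 0 p.1, p.2)) L) = true →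
      ∃ m : ℤ, ∑ s : A, (L.map fun p => (p.2 : ℂ) * χ p.1 s).sum = m ∧ 0 ≤ y * m := by
    intro L h2 h3
    induction L with
    | nil => exact ⟨0, by simp only [_root_.List.map_nil, _root_.List.sum_nil, _root_.Finset.sum_const_zero, _root_.Int.cast_zero], (mul_zero y).ge⟩
    | cons p L ih =>
      have h4 : cond (dv (Nat.mul c.mu (ntd R.deg 0 p.1)) c.N)
          (Int.rec (fun _ => true) (fun _ => false) (Int.mul y p.2)) true = true := (allL_cons h3).1
      obtain ⟨m, hm, hm'⟩ := ih (fun q hq => h2 q (List.mem_cons_of_mem _ hq)) (allL_cons h3).2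
      have h5 := h2 p List.mem_cons_self
      obtain ⟨k, hk⟩ := sum_char (Characters.Core.isIrr_isCharacter (hE.irr _ h5)) A
      refine ⟨p.2 * k + m, ?_, ?_⟩
      · simp only [List.map_cons, List.sum_cons, Finset.sum_add_distrib, hm, ← Finset.mul_sum, hk]
        push_cast
        rfl
      · rw [mul_add, ← mul_assoc]
        refine add_nonneg ?_ hm'
        cases h6 : dv (Nat.mul c.mu (ntd R.deg 0 p.1)) c.N with
        | true =>
          refine mul_nonneg ?_ (Int.natCast_nonneg k)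
          rw [h6, cond_true] at h4
          change Int.rec _ _ (y * p.2) = true at h4
          generalize y * p.2 = z at h4
          cases z with
          | ofNat z => exact Int.natCast_nonneg z
          | negSucc z => cases h4
        | false =>
          rw [H.eq, ntd_eq] at h6
          have h7 := hC K A _ _ _ (hE.irr _ h5) (hE.deg _ h5) H.w.lo' (H.mass.1 ▸ dv_false h6)
          rw [hk, Nat.cast_eq_zero] at h7
          rw [h7, Nat.cast_zero, mul_zero]
  obtain ⟨m, hm, hm'⟩ := h1 r.1 (fun p hp => Nat.blt_eq ▸ allL_spec (allL_spec hi r hr) p hp) hy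
  rw [Finset.sum_congr rfl fun (s : A) _ => hR r hr (s : K), sum_num A fun t => ((r.2.getD t 0 : ℤ) : ℂ)] at hm
  have h2 : ((∑ t ∈ range D.n, (num T A t : ℤ) * nth r.2 t : ℤ) : ℂ) = (m : ℂ) := by
    push_cast
    rw [← hm]
    exact Finset.sum_congr rfl fun t _ => by rw [nsmul_eq_mul, nth_eq]
  rwa [Int.cast_injective h2]

theorem accC_spec {RL : List Rw} (hR : ∀ r ∈ RL, RowOk T A c r) {κ : List ℤ → Bool} (ce : List (ℤ × ℕ)) :
    ∀ V : List ℤ, V.length = D.n → accC c RL ce V κ = true → ∃ V' : List ℤ, κ V' = true ∧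
      ∑ t ∈ range D.n, (num T A t : ℤ) * nth V t ≤ ∑ t ∈ range D.n, (num T A t : ℤ) * nth V' t := by
  induction ce with
  | nil => exact fun V _ h => ⟨V, h, le_rfl⟩
  | cons p ce ih =>
    intro V hV h
    have h1 : RowOk T A c (ntd RL ([], []) p.2) := by
      rcases ntd_mem RL ([], []) p.2 with h2 | h2
      · rw [h2]
        exact fun y _ => by simp only [nth_nil, mul_zero, Finset.sum_const_zero, le_refl]
      · exact hR _ h2
    have h2 : cond (sgn c p.1 (ntd RL ([], []) p.2).1)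
        (frcLZ (axz p.1 V (ntd RL ([], []) p.2).2) fun V' => accC c RL ce V' κ) false = true := h
    cases h3 : sgn c p.1 (ntd RL ([], []) p.2).1 with
    | false =>
      rw [h3] at h2
      cases h2
    | true =>
      rw [h3, cond_true, frcLZ_eq] at h2
      obtain ⟨V', h4, h5⟩ := ih _ ((length_axz _ _ _).trans hV) h2
      refine ⟨V', h4, le_trans ?_ h5⟩
      rw [Finset.sum_congr rfl fun t ht => congrArg _ (nth_axz p.1 V _ (hV ▸ mem_range.1 ht))]
      simp only [mul_add, Finset.sum_add_distrib, mul_left_comm _ p.1, ← Finset.mul_sum]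
      exact le_add_of_nonneg_right (h1 _ h3)

variable [Finite K]

open Classical in
/-- the part of the row `S` which belongs to a type -/
noncomputable def sg (T : TD K D) (A : Subgroup K) [Fintype A] (t : ℕ) : ℕ :=
  ∑ x : A, if T.ty x = t then (if (x : K) = 1 then 0 else fix A (x : K) - 1) else 0

omit [Finite K] in
theorem sg_le [Fintype A] {t G : ℕ} (h : ∀ x, T.ty x = t → fix A x ≤ G) : sg T A t ≤ num T A t * (G - 1) := by
  rw [num_mul]
  refine Finset.sum_le_sum fun x _ => ?_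
  split_ifs with h1 h2
  exacts [Nat.zero_le _, Nat.sub_le_sub_right (h x h1) 1, le_rfl]

theorem Hy.bm [Fintype A] (H : Hy T A d j c) {S : St} (h : Gd T (fun x f => fix A x ≤ f) S) {q l s : ℕ}
    (hq : ∀ x, T.ty x = q → l ≤ fix A x) (Z : List Ze) : ∀ (i k : ℕ) (V : List ℤ) (x y : ℕ), (∀ z ∈ Z, ZOk D z) →
      Z.map Prod.fst = List.range' i k → bm c S (Nat.pow c.d 7) q l s Z V x y = true →
      (x : ℤ) + ∑ u ∈ range k, ((num T A (u + i) : ℤ) * nth V u + s * sg T A (u + i)) < y := by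
  induction Z with
  | nil =>
    intro i k V x y _ h1 h2
    obtain rfl : k = 0 := by simpa using congrArg List.length h1.symm
    have h3 : x < y := Nat.blt_eq ▸ h2
    simpa using h3
  | cons z Z ih =>
    intro i k V x y hZ h1 h2
    cases k with
    | zero => cases h1
    | succ k =>
    cases V with
    | nil => cases h2
    | cons w V =>
    obtain ⟨h3, h4⟩ := List.cons.inj h1
    have hz := hZ z List.mem_cons_self
    have h5 := H.gT h hz
    have h6 := H.hiN hz.1 (hz.2.1 ▸ hz.2.2.1) h5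
    have h7 := H.loN (L := lT c (Nat.pow c.d 7) q l z) hz.1 fun x hx => by
      unfold lT
      cases h7 : Nat.beq z.1 q with
      | true => exact hq x (hx.trans (Nat.eq_of_beq_eq_true h7))
      | false => cases h8 : dv (Nat.gcd z.2.1 (Nat.pow c.d 7)) c.m with
        | true => exact Nat.zero_le _
        | false => exact H.one hz h8 x hx
    have h8 := sg_le h5
    rw [hz.2.2.2.1] at h6 h7
    have h9 := (bm_cons c S (Nat.pow c.d 7) q l s z Z w V x y).symm.trans h2
    have h10 : (num T A z.1 : ℤ) * w + s * sg T A z.1 ≤ num T A z.1 * (w + ((s * (Spor.gT c S z - 1) : ℕ) : ℤ)) := by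
      rw [mul_add]
      refine add_le_add le_rfl ?_
      rw [← Nat.cast_mul, ← Nat.cast_mul, Nat.cast_le, mul_left_comm]
      exact Nat.mul_le_mul_left _ h8
    have h11 : ∀ u, u + 1 + i = u + (i + 1) := fun u => by omega
    rw [Finset.sum_range_succ', zero_add, ← h3]
    simp only [nth_succ, nth_zero, h3, h11]
    rw [h3] at h6 h7 h10
    generalize w + ((s * (Spor.gT c S z - 1) : ℕ) : ℤ) = r at h9 h10
    cases r with
    | ofNat m =>
      have h12 := ih (i + 1) k V _ y (fun z' hz' => hZ z' (List.mem_cons_of_mem _ hz')) h4 h9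
      have h13 : (num T A i : ℤ) * m ≤ (Spor.hiN c (Spor.gT c S z) z.2.2.1 : ℤ) * m :=
        mul_le_mul_of_nonneg_right (Nat.cast_le.2 h6) (Int.natCast_nonneg m)
      rw [Int.ofNat_eq_natCast] at h10
      push_cast at h12
      linarith only [h10, h13, h12]
    | negSucc m =>
      have h12 := ih (i + 1) k V x _ (fun z' hz' => hZ z' (List.mem_cons_of_mem _ hz')) h4 h9
      have h13 : (Spor.loN c (lT c (Nat.pow c.d 7) q l z) z.2.2.1 : ℤ) * (m + 1) ≤ (num T A i : ℤ) * (m + 1) :=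
        mul_le_mul_of_nonneg_right (Nat.cast_le.2 h7) (by positivity)
      rw [Int.negSucc_eq] at h10
      push_cast at h12
      linarith only [h10, h13, h12]

omit [Finite K] in
theorem ZS.ty_zero {Z : List Ze} (hZ : ZS D Z) (g : K) : T.ty g = 0 ↔ g = 1 := by
  refine ⟨fun h => orderOf_eq_one_iff.1 (by rw [T.ord, h, hZ.zero]), fun h => ?_⟩
  by_contra h1
  have h2 := T.lt g
  obtain ⟨z, hz, h3⟩ := List.mem_map.1 (hZ.seq ▸ List.mem_range'_1.2 ⟨Nat.pos_of_ne_zero h1, by omega⟩)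
  have h4 := hZ.ok z hz
  exact h4.2.2.1 (by rw [← h4.2.1, h3, ← T.ord, h, orderOf_one])

theorem Hy.far (H : Hy T A d j c) {RL : List Rw} (hR : ∀ r ∈ RL, RowOk T A c r) {Z : List Ze} (hZ : ZS D Z) {S : St}
    (h : Gd T (fun x f => fix A x ≤ f) S) {st : Step} (hs : far c RL Z D.n S st = true) :
    ¬ ∀ x, T.ty x = st.1 → st.2.1 ≤ fix A x := by
  classical
  intro hq
  have := Fintype.ofFinite A
  obtain ⟨q, l, lam, s, ce⟩ := st
  obtain ⟨V, h1, h2⟩ := accC_spec hR ce _ List.length_replicate hs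
  cases V with
  | nil => cases h1
  | cons v V =>
  have h3 : (Int.rec (fun x => Spor.bm c S (Nat.pow c.d 7) q l s Z V x 0)
      (fun y => Spor.bm c S (Nat.pow c.d 7) q l s Z V 0 (y + 1))
      (v - (lam * c.a + ((s * ((c.mu - 1) * (c.n - 1)) : ℕ) : ℤ))) : Bool) = true :=
    (frc_eq (Nat.pow c.d 7) fun d7 => (Int.rec (fun x => Spor.bm c S d7 q l s Z V x 0)
      (fun y => Spor.bm c S d7 q l s Z V 0 (y + 1))
      (v - (lam * c.a + ((s * ((c.mu - 1) * (c.n - 1)) : ℕ) : ℤ))) : Bool)).symm.trans h1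
  have h4 : v - (lam * c.a + ((s * ((c.mu - 1) * (c.n - 1)) : ℕ) : ℤ)) +
      ∑ u ∈ range (D.n - 1), ((num T A (u + 1) : ℤ) * nth V u + s * sg T A (u + 1)) < 0 := by
    generalize v - (lam * c.a + ((s * ((c.mu - 1) * (c.n - 1)) : ℕ) : ℤ)) = r at h3
    cases r with
    | ofNat m => exact H.bm h hq Z 1 _ V m 0 hZ.ok hZ.seq h3
    | negSucc m =>
      have h5 := H.bm h hq Z 1 _ V 0 (m + 1) hZ.ok hZ.seq h3
      rw [Int.negSucc_eq]
      push_cast at h5
      linarith
  have h5 : ∑ t ∈ range D.n, (num T A t : ℤ) * nth (List.replicate D.n lam) t = lam * Nat.card A := by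
    rw [card_eq_sum (T := T) A, Nat.cast_sum, Finset.mul_sum]
    exact Finset.sum_congr rfl fun t ht => by rw [nth_eq, List.getD_replicate _ (mem_range.1 ht), mul_comm]
  have h6 : num T A 0 = 1 := by
    rw [num_def, Nat.card_eq_one_iff_exists]
    exact ⟨⟨1, (hZ.ty_zero _).2 rfl⟩, fun s => Subtype.ext (Subtype.ext ((hZ.ty_zero _).1 s.2))⟩
  have h7 : sg T A 0 = 0 := Finset.sum_eq_zero fun x _ => by
    split_ifs with h7 h8
    exacts [rfl, absurd ((hZ.ty_zero _).1 h7) h8, rfl]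
  have h8 : (Nat.card A / d - 1) * (A.index - 1) ≤ ∑ t ∈ range D.n, sg T A t := by
    refine H.w.rowS.trans (le_of_eq ?_)
    unfold sg
    rw [Finset.sum_comm]
    exact Finset.sum_congr rfl fun x _ => by rw [Finset.sum_ite_eq, if_pos (mem_range.2 (T.lt _))]
  obtain ⟨k, hk⟩ : ∃ k, D.n = k + 1 := ⟨_, (Nat.succ_pred_eq_of_pos hZ.pos).symm⟩
  rw [h5] at h2
  rw [hk, Finset.sum_range_succ'] at h2 h8
  rw [hk, Nat.add_sub_cancel, Finset.sum_add_distrib, ← Finset.mul_sum, H.eq] at h4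
  simp only [nth_succ, nth_zero, h6] at h2
  rw [h7, add_zero] at h8
  have h9 : ((s * ((Nat.card A / d - 1) * (A.index - 1)) : ℕ) : ℤ) ≤ s * ∑ u ∈ range k, (sg T A (u + 1) : ℤ) := by
    exact_mod_cast Nat.mul_le_mul_left s h8
  push_cast at h2
  linarith only [h4, h9, h2]

theorem Hy.run (H : Hy T A d j c) {RL : List Rw} (hR : ∀ r ∈ RL, RowOk T A c r) {Z : List Ze} (hZ : ZS D Z)
    (L : List Step) : ∀ S, Gd T (fun x f => fix A x ≤ f) S → ¬ run c RL Z D.n L S = true := by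
  induction L with
  | nil =>
    intro S h h1
    have h2 : cond (Spor.uT c S) true (Spor.boxT c S Z) = true := h1
    cases h3 : Spor.uT c S with
    | true => exact H.uT h h3
    | false =>
      rw [h3] at h2
      exact H.boxT h hZ.ok h2
  | cons st L ih =>
    intro S h h1
    have h2 : cond (Spor.far c RL Z D.n S st) (cond (Nat.beq st.2.1 0) true
        (frcS (mapS (Spor.upd c st.1 st.2.1) S) (Spor.run c RL Z D.n L))) false = true := h1
    cases h3 : Spor.far c RL Z D.n S st with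
    | false =>
      rw [h3] at h2
      cases h2
    | true =>
      have h4 := H.far hR hZ h h3
      rw [h3, cond_true] at h2
      cases h5 : Nat.beq st.2.1 0 with
      | true => exact h4 fun x _ => (Nat.eq_of_beq_eq_true h5).le.trans (Nat.zero_le _)
      | false =>
        rw [h5, cond_false, frcS_eq] at h2
        exact ih _ (H.upd h h4) h2

theorem hy_of (hm : T.Mass) (hu : Unif T) (h : W A d j) : Hy T A d j ⟨D.N, j, Nat.card A, d, D.N / Nat.card A,
    Nat.card A / d, j * (Nat.card A / d), (D.N / Nat.card A - 1) / d⟩ := by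
  have h1 : D.N / Nat.card A = A.index := by
    rw [← hm.1]
    exact Nat.div_eq_of_eq_mul_right Nat.card_pos A.card_mul_index.symm
  rw [h1]
  exact ⟨hm, hu, h, rfl⟩

/-- **the candidates of a list do not occur** -/
theorem not_mem_of_okL (hC : BoxCH) {K : Type} [Group K] [Finite K] {T : TD K D} {A : Subgroup K} (hm : T.Mass)
    (hu : Unif T) (h : W A d j) {R : Rows} (hT : Tab T R) (hi : okIdx R = true) {P : St} (hP : Gd T QC P) {Z : List Ze}
    (hZ : ZS D Z) {CL : List (ℕ × ℕ × List Step)} (hL : okL D R j P Z CL = true) :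
    (Nat.card A, d) ∉ CL.map fun x => (x.1, x.2.1) := by
  intro h1
  obtain ⟨⟨a, d', L⟩, hx, h2⟩ := List.mem_map.1 h1
  obtain ⟨rfl, rfl⟩ := Prod.mk.inj h2
  rw [okL, frc_eq, frc_eq, frcR_eq] at hL
  have h3 := allL_spec hL _ hx
  rw [okC, frc_eq, mkCx_eq, frcS_eq] at h3
  have H := hy_of hm hu h
  exact H.run (rowOk_of hC H hT hi) hZ L _ (H.ini hP) h3

end Cfsg.Agent.TH.Spor
end

private theorem dce_32057d33fcf5 : _root_.True := by
  try have : _root_.True := by simp only [_root_.Cfsg.Agent.TH.Spor.okIdx.eq_1]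
  try have : _root_.True := by simp only [_root_.Cfsg.Agent.TH.Spor.rnd.eq_1]
  try have : _root_.True := by simp only [_root_.Cfsg.Agent.TH.Spor.dv.eq_1]
  try have : _root_.True := by simp only [_root_.Cfsg.Agent.TH.Spor.prep.eq_1]
  try have : _root_.True := by simp only [_root_.Cfsg.Agent.TH.Spor.okL.eq_1]
  try have : _root_.True := by simp only [_root_.Cfsg.Agent.TH.Spor.okC.eq_1]
  try have : _root_.True := by simp only [_root_.Cfsg.Agent.TH.Spor.frcR.eq_1]
  try have : _root_.True := by simp only [_root_.Cfsg.Agent.TH.Spor.okZ.eq_1]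
  try have : _root_.True := by simp only [_root_.Cfsg.Agent.TH.Spor.mapS.eq_1]
  try have : _root_.True := by simp only [_root_.Cfsg.Agent.TH.Spor.boxT.eq_1]
  try have : _root_.True := by simp only [_root_.Cfsg.Agent.TH.Spor.mn.eq_1]
  try have : _root_.True := by simp only [_root_.Cfsg.Agent.TH.Spor.mkCx.eq_1]
  exact _root_.True.intro
end

-- part: TH/Spor/J1
section
set_option linter.all false
open scoped Cfsg.Agent.FastGrp

/-!
# S3541, the group `J₁` : the rational classes and the table (helper11)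

The types are the element orders. The rows come from the permutation characters on the cyclic subgroups by the adjoint
Adams operations and `δ` (scripts as in `notes/TH/j3`).
-/

set_option autoImplicit false
set_option maxRecDepth 100000

namespace Cfsg.Agent.TH.Spor

open Cfsg Cfsg.Spor Subgroup Cfsg.Agent.TAB Cfsg.Agent.TAB.Eng Cfsg.Agent.TAB.Use Cfsg.Agent.TAB.ON Cfsg.Agent.TAB.Sm1

namespace J1

open Cfsg.Agent.H413.JOneLocal Cfsg.Agent.H413.JOneSpec

/-- the types `1A 2A 3A 5AB 6A 7A 10AB 11A 15AB 19ABC` -/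
def dat : Dat where
  n := 10
  N := 175560
  ordL := [1, 2, 3, 5, 6, 7, 10, 11, 15, 19]
  cntL := [1, 1463, 5852, 11704, 29260, 25080, 35112, 15960, 23408, 27720]
  pwL := [[], [(1, 1)], [(1, 2)], [(1, 3)], [(1, 4), (2, 2), (3, 1)], [(1, 5)], [(1, 6), (2, 3), (5, 1)], [(1, 7)], [(1, 8),
    (3, 3), (5, 2)], [(1, 9)]]

/-- the numbers of classes -/
def clsN (i : ℕ) : ℕ := [1, 1, 1, 2, 1, 1, 2, 1, 2, 3].getD i 0

theorem okPow : dat.okPow = true := by decide +kernel
theorem okSep : dat.okSep (fun _ => ()) = true := by decide +kernel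
theorem okSum : dat.okSum = true := by decide +kernel

/-- the trivial key -/
def key : Key Spor.J1 Unit where
  P _ _ := True
  func _ _ _ _ _ := rfl
  conj _ _ _ _ := trivial
  gal _ _ _ _ _ := trivial

theorem ty_of {i : ℕ} {g : Spor.J1} (ho : orderOf g = dat.ord i) : Ty key dat (fun _ => ()) i g :=
  ⟨ho, fun _ _ => trivial⟩

theorem not_conj {x : Spor.J1} {n a : ℕ} (hx : orderOf x = n)
    (h : ∀ o ∈ ({1, 2, 3, 5, 6, 7, 10, 11, 15, 19} : Finset ℕ), ¬ a ^ o ≡ 1 [MOD n]) : ¬ IsConj x (x ^ a) :=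
  fun hc => by
    obtain ⟨c, hc⟩ := conj_pow_mod hc
    exact h _ (orderOf_mem_J1 c) (hx ▸ hc)

theorem cent_le {x : Spor.J1} {n e p : ℕ} (hx : orderOf x = n) (hp : p.Prime) (hc : Nat.Coprime p n)
    (h : p * n = 30) (h30 : Nat.card (centralizer ({x ^ e} : Set Spor.J1)) = 30) :
    Nat.card (centralizer ({x} : Set Spor.J1)) ≤ n := by
  have := TAB.J1.finite
  have h1 : Nat.card (centralizer ({x} : Set Spor.J1)) ∣ p * n := by
    rw [h, ← h30]
    exact card_dvd_of_le fun y hy =>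
      mem_centralizer_singleton_iff.2 (Commute.pow_right (mem_centralizer_singleton_iff.1 hy) e).eq
  refine Nat.le_of_dvd (hx ▸ orderOf_pos x) (Nat.Coprime.dvd_of_dvd_mul_left
    ((Nat.Prime.coprime_iff_not_dvd hp).2 fun h2 => ?_).symm h1)
  have h3 : 30 ∉ ({1, 2, 3, 5, 6, 7, 10, 11, 15, 19} : Finset ℕ) := by decide
  have := Fact.mk hp
  obtain ⟨⟨u, u1⟩, u2⟩ := exists_prime_orderOf_dvd_card' (G := centralizer ({x} : Set Spor.J1)) p h2
  rw [Subgroup.orderOf_mk] at u2
  have u3 : Commute u x := (mem_centralizer_singleton_iff.1 u1 :)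
  have h4 := orderOf_mem_J1 (u * x)
  rw [u3.orderOf_mul_eq_mul_orderOf_of_coprime (by rwa [u2, hx]), u2, hx, h] at h4
  exact h3 h4

theorem boxes : ∀ i < dat.n, BoxR key dat (fun _ => ()) i (clsN i) := by
  have := TAB.J1.finite
  have : IsSimpleGroup Spor.J1 := SporadicB.J1.Main.isJ1.1
  have hb : ∀ {x : Spor.J1} {n : ℕ}, orderOf x = n → Big n → Nat.card (centralizer ({x} : Set Spor.J1)) ≤ n :=
    fun hx h => (hx ▸ H417.JOneDeg.card_cent isLocal card_J1 (hx ▸ h)).le
  intro i hi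
  obtain ⟨x, hx⟩ := (exists_orderOf_iff (dat.ord i)).2 (by revert i; decide +kernel)
  have ht := ty_of hx
  change i < 10 at hi
  interval_cases i
  · exact BoxR.one ht ((card_le_card_group _).trans card_J1.le) (by decide +kernel)
  · exact BoxR.one ht (card_cent_two isLocal hx).le (by decide +kernel)
  · exact BoxR.one ht (isLocal.cent3 x hx).le (by decide +kernel)
  · exact BoxR.two (k := 2) ht (isLocal.cent5 x hx).le (by decide) (not_conj hx (by decide +kernel))
      (by decide +kernel)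
  · exact BoxR.one ht (cent_le (e := 2) hx Nat.prime_five (by decide) rfl
      (isLocal.cent3 _ (by rw [orderOf_pow, hx]; rfl))) (by decide +kernel)
  · exact BoxR.one ht (hb hx (Or.inl rfl)) (by decide +kernel)
  · exact BoxR.two (k := 3) ht (cent_le (e := 2) hx Nat.prime_three (by decide) rfl
      (isLocal.cent5 _ (by rw [orderOf_pow, hx]; rfl))) (by decide) (not_conj hx (by decide +kernel))
      (by decide +kernel)
  · exact BoxR.one ht (hb hx (Or.inr (Or.inl rfl))) (by decide +kernel)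
  · exact BoxR.two (k := 2) ht (cent_le (e := 3) hx Nat.prime_two (by decide) rfl
      (isLocal.cent5 _ (by rw [orderOf_pow, hx]; rfl))) (by decide) (not_conj hx (by decide +kernel))
      (by decide +kernel)
  · refine ⟨x, 19, [1, 2, 4], ht, hb hx (Or.inr (Or.inr rfl)), rfl, by decide, ?_, by decide +kernel⟩
    simp only [List.pairwise_cons, List.forall_mem_cons, pow_one, List.not_mem_nil, IsEmpty.forall_iff, implies_true,
      List.Pairwise.nil, and_true]
    refine ⟨⟨not_conj hx (by decide +kernel), not_conj hx (by decide +kernel)⟩, ?_⟩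
    rw [show 4 = 2 * 2 from rfl, pow_mul]
    exact TAB.J1.not_sq (Or.inr (by rw [orderOf_pow, hx]; rfl))

/-- the table -/
def tab : Rows where
  deg := [1, 56, 56, 76, 76, 77, 77, 77, 120, 120, 120, 133, 133, 133, 209]
  rel := [
([(0, 1)], [1, 1, 1, 1, 1, 1, 1, 1, 1, 1]),
([(1, 1), (2, 1)], [112, 0, 4, 2, 0, 0, 0, 2, -1, -2]),
([(3, 1)], [76, 4, 1, 1, 1, -1, -1, -1, 1, 0]),
([(4, 1)], [76, -4, 1, 1, -1, -1, 1, -1, 1, 0]),
([(5, 1)], [77, 5, -1, 2, -1, 0, 0, 0, -1, 1]),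
([(6, 1), (7, 1)], [154, -6, 4, -1, 0, 0, -1, 0, -1, 2]),
([(8, 1), (9, 1), (10, 1)], [360, 0, 0, 0, 0, 3, 0, -3, 0, -1]),
([(11, 1)], [133, 5, 1, -2, -1, 0, 0, 1, 1, 0]),
([(12, 1), (13, 1)], [266, -6, -4, 1, 0, 0, -1, 2, 1, 0]),
([(14, 1)], [209, 1, -1, -1, 1, -1, 1, 0, -1, 0])]

def q1 : List ℤ × Sm1.Op := ([175560, 0, 0, 0, 0, 0, 0, 0, 0, 0], .cyc 0)
def q2 : List ℤ × Sm1.Op := ([87780, 60, 0, 0, 0, 0, 0, 0, 0, 0], .cyc 1)
def q3 : List ℤ × Sm1.Op := ([58520, 0, 20, 0, 0, 0, 0, 0, 0, 0], .cyc 2)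
def q4 : List ℤ × Sm1.Op := ([35112, 0, 0, 12, 0, 0, 0, 0, 0, 0], .cyc 3)
def q5 : List ℤ × Sm1.Op := ([29260, 20, 10, 0, 2, 0, 0, 0, 0, 0], .cyc 4)
def q6 : List ℤ × Sm1.Op := ([25080, 0, 0, 0, 0, 6, 0, 0, 0, 0], .cyc 5)
def q7 : List ℤ × Sm1.Op := ([17556, 12, 0, 6, 0, 0, 2, 0, 0, 0], .cyc 6)
def q8 : List ℤ × Sm1.Op := ([15960, 0, 0, 0, 0, 0, 0, 10, 0, 0], .cyc 7)
def q9 : List ℤ × Sm1.Op := ([11704, 0, 4, 4, 0, 0, 0, 0, 4, 0], .cyc 8)
def q10 : List ℤ × Sm1.Op := ([9240, 0, 0, 0, 0, 0, 0, 0, 0, 6], .cyc 9)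
def q11 : List ℤ × Sm1.Op := ([266, 10, 2, -4, -2, 0, 0, 2, 2, 0], .lin [(-18, 0), (1, 1), (-4, 2), (-4, 3), (-5,
    4), (8, 5), (3, 6), (9, 7), (2, 8), (5, 9), (3, 10)])
def q12 : List ℤ × Sm1.Op := ([-1, 23, -1, -1, -1, -1, 3, -1, -1, -1], .lin [(-1, 0), (-1, 4), (2, 7)])
def q13 : List ℤ × Sm1.Op := ([0, 16, 0, 0, 4, 0, -4, 0, 0, 0], .lin [(-1, 3), (1, 4), (2, 5), (-2, 7)])
def q14 : List ℤ × Sm1.Op := ([-264, 8, 0, 6, -4, 2, -2, 0, 0, 2], .lin [(20, 0), (-2, 1), (6, 2), (6, 3), (6, 4),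
    (-12, 5), (-3, 6), (-11, 7), (-2, 8), (-5, 9), (-3, 10)])
def q15 : List ℤ × Sm1.Op := ([-1, 7, -7, 9, 1, -1, -3, -1, 3, -1], .lin [(-1, 0), (-1, 3), (1, 4), (1, 5), (-1, 7),
    (1, 9)])
def q16 : List ℤ × Sm1.Op := ([459, 3, 9, -1, -3, -3, 3, -3, -1, 3], .lin [(27, 0), (-2, 1), (7, 2), (8, 3), (6, 4),
    (-15, 5), (-5, 6), (-12, 7), (-3, 8), (-7, 9), (-4, 10)])
def q17 : List ℤ × Sm1.Op := ([72, -8, 6, 2, -2, 2, 2, 6, -4, -4], .lin [(-4, 0), (-1, 2), (-1, 4), (1, 5), (1, 6),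
    (3, 7), (1, 8)])
def q18 : List ℤ × Sm1.Op := ([-798, 2, 12, 2, -4, 0, 2, -6, 2, 0], .lin [(-6, 0), (-1, 2), (-2, 4), (1, 5), (1, 6),
    (4, 7), (2, 9), (1, 10)])
def q19 : List ℤ × Sm1.Op := ([874, 10, -2, 4, -2, 6, 0, -6, -2, 0], .lin [(-6, 0), (-1, 2), (-1, 3), (-1, 4), (2,
    5), (2, 6), (3, 7), (1, 9), (1, 10)])
def q20 : List ℤ × Sm1.Op := ([25081, 1, 1, 1, 1, 0, 1, 1, 1, 1], .coad 0 7)
def q21 : List ℤ × Sm1.Op := ([1464, 0, 6, 4, 0, 1, 0, 1, 1, 1], .coad 0 2)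
def q22 : List ℤ × Sm1.Op := ([-2556, 4, -15, -1, 1, -1, -1, -15, -10, -10], .del 17 2)
def q23 : List ℤ × Sm1.Op := ([-1, -25, -28, -36, -4, -1, 0, -1, -3, -1], .del 15 2)
def q24 : List ℤ × Sm1.Op := ([-5853, 3, 0, -3, 0, -1, 3, -1, 0, -1], .coad 12 3)
def q25 : List ℤ × Sm1.Op := ([-11245, 75, 5, 0, -3, -3, 0, -3, 0, 3], .coad 16 5)
def q26 : List ℤ × Sm1.Op := ([27721, 1, 1, 1, 1, 1, 1, 1, 1, 0], .coad 0 19)
def q27 : List ℤ × Sm1.Op := ([-35245, 83, -1, -10, -1, 0, -2, -1, -1, 0], .del 11 2)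
def q28 : List ℤ × Sm1.Op := ([133, 5, 1, -2, -1, 0, 0, 1, 1, 0], .lin [(-13, 0), (-375, 11), (255, 12), (-8, 13),
    (345, 14), (-323, 15), (-422, 16), (-140, 17), (231, 18), (-290, 19), (33, 20), (15, 21), (9, 22), (-2, 23),
    (-1, 24)])
def q29 : List ℤ × Sm1.Op := ([76, 4, 1, 1, 1, -1, -1, -1, 1, 0], .lin [(21905, 0), (665314, 11), (-452231, 12),
    (15065, 13), (-612450, 14), (573674, 15), (749123, 16), (248997, 17), (-409381, 18), (515191, 19), (-58483, 20),
    (-28696, 21), (-16641, 22), (3585, 23), (2139, 24), (-150, 25), (-5, 26), (1, 27)])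
def q30 : List ℤ × Sm1.Op := ([209, 1, -1, -1, 1, -1, 1, 0, -1, 0], .lin [(21904, 0), (665279, 11), (-452207, 12),
    (15064, 13), (-612418, 14), (573644, 15), (749084, 16), (248984, 17), (-409360, 18), (515164, 19), (-58480, 20),
    (-28693, 21), (-16640, 22), (3585, 23), (2139, 24), (-150, 25), (-5, 26), (1, 27)])
def q31 : List ℤ × Sm1.Op := ([77, 5, -1, 2, -1, 0, 0, 0, -1, 1], .lin [(22070, 0), (670296, 11), (-455617, 12),
    (15177, 13), (-617035, 14), (577969, 15), (754732, 16), (250861, 17), (-412447, 18), (519048, 19), (-58921, 20),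
    (-28908, 21), (-16765, 22), (3612, 23), (2155, 24), (-151, 25), (-5, 26), (1, 27)])
def q32 : List ℤ × Sm1.Op := ([76, -4, 1, 1, -1, -1, 1, -1, 1, 0], .lin [(-3499, 0), (-106299, 11), (72255, 12),
    (-2409, 13), (97855, 14), (-91660, 15), (-119692, 16), (-39785, 17), (65408, 18), (-82316, 19), (9344, 20),
    (4589, 21), (2660, 22), (-573, 23), (-342, 24), (24, 25), (1, 26)])
def q33 : List ℤ × Sm1.Op := ([112, 0, 4, 2, 0, 0, 0, 2, -1, -2], .lin [(-21904, 0), (-665268, 11), (452200, 12),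
    (-15064, 13), (612408, 14), (-573635, 15), (-749072, 16), (-248980, 17), (409353, 18), (-515156, 19), (58479,
    20), (28694, 21), (16640, 22), (-3585, 23), (-2139, 24), (150, 25), (5, 26), (-1, 27)])
def q34 : List ℤ × Sm1.Op := ([266, -6, -4, 1, 0, 0, -1, 2, 1, 0], .lin [(-3, 0), (-136, 11), (93, 12), (-4, 13),
    (127, 14), (-119, 15), (-155, 16), (-52, 17), (84, 18), (-107, 19), (12, 20), (6, 21), (4, 22), (-1, 23), (-1,
    24)])
def q35 : List ℤ × Sm1.Op := ([154, -6, 4, -1, 0, 0, -1, 0, -1, 2], .lin [(154, 0), (4754, 11), (-3233, 12), (109,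
    13), (-4379, 14), (4102, 15), (5356, 16), (1781, 17), (-2926, 18), (3684, 19), (-418, 20), (-206, 21), (-120,
    22), (26, 23), (16, 24), (-1, 25)])
def q36 : List ℤ × Sm1.Op := ([360, 0, 0, 0, 0, 3, 0, -3, 0, -1], .lin [(3501, 0), (106300, 11), (-72255, 12),
    (2408, 13), (-97854, 14), (91659, 15), (119691, 16), (39784, 17), (-65408, 18), (82315, 19), (-9344, 20),
    (-4586, 21), (-2659, 22), (573, 23), (342, 24), (-24, 25), (-1, 26)])

/-- the program -/
def prog : List (List ℤ × Sm1.Op) := [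
q1, q2, q3, q4, q5, q6, q7, q8, q9, q10, q11, q12, q13, q14, q15, q16, q17, q18, q19, q20, q21, q22, q23, q24, q25,
    q26, q27, q28, q29, q30, q31, q32, q33, q34, q35, q36]

/-- the rows as combinations -/
def fin : List (List (ℤ × ℕ)) :=
  [[(1, 0)], [(1, 33)], [(1, 29)], [(1, 32)], [(1, 31)], [(1, 35)], [(1, 36)], [(1, 28)], [(1, 34)], [(1, 30)]]

/-- all rows of the program -/
def rows : List (List ℤ) := [List.replicate 10 1] ++ prog.map Prod.fst

theorem prog_ok : chkSlp dat true prog [List.replicate 10 1] = true := by decide +kernel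
theorem fin_ok : chkLin dat rows (tab.rel.map Prod.snd) fin = true := by decide +kernel
theorem tab_ok : okR dat tab = true := by decide +kernel

/-- **the table of `J₁`** -/
theorem exists_tab : ∃ T : TD Spor.J1 dat, T.Mass ∧ Rat T ∧ Tab T tab := by
  have := TAB.J1.finite
  obtain ⟨T, hm, hr, -, hc⟩ := exists_td_rat okPow okSep okSum card_J1 clsN boxes
  have h1 : ∀ v ∈ rows, Virt T (nth v) := virt_chkSlp (Hyp.true hm hr (by decide +kernel)) prog
    (List.forall_mem_singleton.2 ((Virt.const 1).congr (by decide +kernel))) prog_ok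
  exact ⟨T, hm, hr, tab_of_cls hm (fun r hr => virt_chkLin h1 fin_ok _ (List.mem_map_of_mem hr)) tab_ok hc⟩

end J1

theorem in_j1 {K : Type} [Group K] (h : IsoJ1 K) : In K J1.dat J1.tab := by
  obtain ⟨e⟩ := h
  obtain ⟨T, hm, hr, ht⟩ := J1.exists_tab
  refine ⟨T.pull e, mass_pull hm e, tab_pull ht e, fun g k _ h1 => ?_⟩
  obtain ⟨j, hj⟩ := hr (e g) (e k) h1
  refine ⟨j, ?_⟩
  have h2 := e.symm.toMonoidHom.map_isConj hj
  simpa only [_root_.isConj_iff, _root_.MulEquiv.toMonoidHom_eq_coe, _root_.MonoidHom.coe_coe, _root_.map_pow, _root_.MulEquiv.symm_apply_apply] using h2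

theorem out_j1 {K : Type} [Group K] (h : IsoJ1 K) : (MulAut.conj : K →* MulAut K).range.index = 1 := by
  obtain ⟨e⟩ := h
  rw [index_eq_one, eq_top_iff]
  intro α _
  obtain ⟨k, hk⟩ := OddHalf.D4.Spor.J1Out.inn (MulAut.congr e α)
  refine ⟨e.symm k, MulEquiv.ext fun x => e.injective ?_⟩
  have h1 := MulEquiv.congr_fun hk (e x)
  simpa only [_root_.MulAut.conj_apply, _root_.map_mul, _root_.MulEquiv.apply_symm_apply, _root_.map_inv, _root_.MulAut.congr_apply, _root_.MulEquiv.trans_apply, _root_.MulEquiv.symm_apply_apply] using h1.symm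

end Cfsg.Agent.TH.Spor
end
end
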